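import Mathlib

/-!
# Transitive groups of degree 100 with suborbits 1, 22, 77 and simple point stabiliser
-/

set_option autoImplicit false

namespace Cfsg.Agent.HSGraph

open MulAction
open scoped Pointwise

/-- Sets invariant under a point stabiliser contain 1, 23, 78 or 100 points; then the group is simple. -/
theorem isSimpleGroup_hundred {G X : Type*} [Group G] [Finite G] [MulAction G X] [FaithfulSMul G X]
    [IsPretransitive G X] (a : X) (hX : Nat.card X = 100) [IsSimpleGroup (stabilizer G a)]
    (hinv : ∀ O : Set X, a ∈ O → (∀ g ∈ stabilizer G a, ∀ x ∈ O, g • x ∈ O) →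
      O.ncard = 1 ∨ O.ncard = 23 ∨ O.ncard = 78 ∨ O.ncard = 100) :
    IsSimpleGroup G := by
  haveI : Finite X := Nat.finite_of_card_ne_zero (by omega)
  haveI hne : Nontrivial G := by
    obtain ⟨x, y, hxy⟩ := exists_pair_ne (stabilizer G a)
    exact ⟨⟨x, y, fun h => hxy (Subtype.ext h)⟩⟩
  have htrans : ∀ N : Subgroup G, N.Normal → N ≠ ⊥ → ∀ x : X, ∃ n ∈ N, n • a = x := by
    intro N hN hNb
    set O : Set X := orbit N a with hO
    have hblock : IsBlock G O := IsBlock.orbit_of_normal a
    have hdvd := hblock.ncard_dvd_card ⟨a, mem_orbit_self a⟩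
    rw [hX] at hdvd
    have hcard := hinv O (mem_orbit_self a) fun g hg x hx => by
      obtain ⟨⟨n, hn⟩, rfl⟩ := hx
      refine ⟨⟨g * n * g⁻¹, hN.conj_mem n hn g⟩, ?_⟩
      show (g * n * g⁻¹) • a = g • n • a
      rw [mul_smul, mul_smul, mem_stabilizer_iff.mp (inv_mem hg)]
    rcases hcard with h | h | h | h
    · exfalso
      refine hNb ((Subgroup.eq_bot_iff_forall N).mpr fun n hn => eq_of_smul_eq_smul fun x : X => ?_)
      obtain ⟨g, rfl⟩ := exists_smul_eq G a x
      obtain ⟨b, hb⟩ := Set.ncard_eq_one.mp h
      have e1 : (g⁻¹ * n * g) • a = b := by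
        have hm : g⁻¹ * n * g ∈ N := by simpa using hN.conj_mem n hn g⁻¹
        have : (g⁻¹ * n * g) • a ∈ O := ⟨⟨_, hm⟩, rfl⟩
        rwa [hb, Set.mem_singleton_iff] at this
      have e2 : a = b := by
        have : a ∈ O := mem_orbit_self a
        rwa [hb, Set.mem_singleton_iff] at this
      rw [← e2, mul_smul, mul_smul, inv_smul_eq_iff] at e1
      rw [one_smul, e1]
    · rw [h] at hdvd; norm_num at hdvd
    · rw [h] at hdvd; norm_num at hdvd
    · intro x
      have : O = Set.univ := Set.eq_of_subset_of_ncard_le (Set.subset_univ _)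
        (by rw [Set.ncard_univ, hX, h])
      obtain ⟨⟨n, hn⟩, e⟩ := (this ▸ Set.mem_univ x : x ∈ O)
      exact ⟨n, hn, e⟩
  refine ⟨fun N hN => ?_⟩
  by_contra hcon
  push Not at hcon
  obtain ⟨hNb, hNt⟩ := hcon
  haveI hN' : (N.subgroupOf (stabilizer G a)).Normal := inferInstance
  rcases hN'.eq_bot_or_eq_top with h | h
  · -- regular case
    have hreg : Function.Bijective fun n : N => (n : G) • a := by
      refine ⟨fun m n e => ?_, fun x => ?_⟩
      · have hs : (n : G)⁻¹ * m ∈ stabilizer G a := by
          rw [mem_stabilizer_iff, mul_smul, show (m : G) • a = (n : G) • a from e, inv_smul_smul]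
        have : (⟨_, hs⟩ : stabilizer G a) ∈ N.subgroupOf (stabilizer G a) :=
          N.mul_mem (N.inv_mem n.2) m.2
        rw [h, Subgroup.mem_bot] at this
        exact (Subtype.ext (inv_mul_eq_one.mp (congrArg Subtype.val this))).symm
      · obtain ⟨n, hn, e⟩ := htrans N hN hNb x
        exact ⟨⟨n, hn⟩, e⟩
    have hN100 : Nat.card N = 100 := (Nat.card_congr (Equiv.ofBijective _ hreg)).trans hX
    haveI : Fact (Nat.Prime 5) := ⟨by norm_num⟩
    have P : Sylow 5 N := default
    have hP : Nat.card (P : Subgroup N) = 25 := by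
      rw [P.card_eq_multiplicity, hN100]
      have : Nat.factorization 100 5 = 2 := by
        rw [show (100 : ℕ) = 5 ^ 2 * 4 by norm_num, Nat.factorization_mul (by norm_num) (by norm_num),
          Finsupp.add_apply, Nat.Prime.factorization_pow (by norm_num),
          Nat.factorization_eq_zero_of_not_dvd (by norm_num : ¬ 5 ∣ 4)]
        simp
      rw [this]
      norm_num
    have hidx : (P : Subgroup N).index = 4 := by
      have := (P : Subgroup N).card_mul_index
      rw [hP, hN100] at this
      omega
    have hs1 : Nat.card (Sylow 5 N) = 1 := by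
      have hd := P.card_dvd_index
      rw [hidx] at hd
      have hm := card_sylow_modEq_one 5 N
      have hle := Nat.le_of_dvd (by norm_num) hd
      unfold Nat.ModEq at hm
      omega
    haveI : Subsingleton (Sylow 5 N) := (Nat.card_eq_one_iff_unique.mp hs1).1
    haveI := Sylow.characteristic_of_subsingleton P
    have hnorm : ((P : Subgroup N).map N.subtype).Normal := inferInstance
    have hc : Nat.card ((P : Subgroup N).map N.subtype) = 25 := by
      rw [Subgroup.card_map_of_injective N.subtype_injective, hP]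
    have hsurj : Function.Surjective fun n : ((P : Subgroup N).map N.subtype : Subgroup G) => (n : G) • a := by
      intro x
      obtain ⟨n, hn, e⟩ := htrans _ hnorm (fun e => by rw [e] at hc; simp at hc) x
      exact ⟨⟨n, hn⟩, e⟩
    have := Nat.card_le_card_of_surjective _ hsurj
    rw [hX, hc] at this
    omega
  · -- the stabiliser lies in N
    refine hNt ((Subgroup.eq_top_iff' N).mpr fun g => ?_)
    obtain ⟨n, hn, e⟩ := htrans N hN hNb (g • a)
    have hs : n⁻¹ * g ∈ stabilizer G a := by
      rw [mem_stabilizer_iff, mul_smul, ← e, inv_smul_smul]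
    have : n⁻¹ * g ∈ N := Subgroup.subgroupOf_eq_top.mp h hs
    simpa using N.mul_mem hn this

end Cfsg.Agent.HSGraph
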