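import Cfsg.Agent.Steiner.Transport22

/-!
# An involution of an S(3,6,22) with 8 fixed points and 21 fixed blocks
-/

set_option autoImplicit false

namespace Cfsg.Agent.HSGraph

open Finset Cfsg CfsgLib CfsgLib.Steiner

/-- An involution of the 24 points exchanging two of them. -/
def swapList : List ℕ := [0,21,2,16,4,5,6,19,22,13,10,11,20,9,18,17,3,15,14,7,12,1,8,23]

theorem swapList_invol : Function.Involutive fun p : GolayPt => Golay.pt (swapList.getD (Golay.idx p) 0) := by
  unfold Function.Involutive; decide +kernel

/-- The permutation with that list. -/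
def swapPerm : Equiv.Perm GolayPt := swapList_invol.toPerm _

theorem toList_swapPerm : Golay.toList swapPerm = swapList := by decide +kernel

theorem swapPerm_mem : swapPerm ∈ M24 := by
  apply Golay.mem_M24_of_preserves
  rw [toList_swapPerm]
  unfold Golay.PreservesCode
  decide +kernel

theorem swap_points : ((univ : Finset GolayPt).filter fun p =>
    p ≠ Golay.pt 1 ∧ p ≠ Golay.pt 21 ∧ swapPerm p ≠ p).card = 14 := by decide +kernel

theorem swap_pair : swapPerm (Golay.pt 1) = Golay.pt 21 ∧ swapPerm (Golay.pt 21) = Golay.pt 1 ∧
    Golay.pt 1 ≠ Golay.pt 21 := by decide +kernel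

/-- The words of weight 8 through the two points. -/
def pairWords : Finset ℕ := (Finset.range 4096).filter fun c =>
  Golay.wt 24 (Golay.word c) = 8 ∧ (Golay.word c).testBit 1 = true ∧ (Golay.word c).testBit 21 = true

theorem card_pairWords : pairWords.card = 77 := by
  rw [pairWords, show 4096 = 64 * 64 from rfl, Golay.card_filter_range_mul]; decide +kernel

theorem card_pairWords_fixed :
    (pairWords.filter fun c => Golay.permMask swapList (Golay.word c) 24 = Golay.word c).card = 21 := by
  rw [pairWords, Finset.filter_filter, show 4096 = 64 * 64 from rfl, Golay.card_filter_range_mul]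
  decide +kernel

variable {α : Type*} [Fintype α] [DecidableEq α] {B : Set (Finset α)}

open Classical in
theorem exists_swap (hB : IsSteinerSystem 3 6 B) (hα : Fintype.card α = 22) :
    ∃ π : Equiv.Perm α, π ∈ setSystemAut B ∧ π * π = 1 ∧
      ((univ : Finset α).filter fun a => π a ≠ a).card = 14 ∧
      ((blocks B).filter fun b => b.image π = b).card = 21 := by
  obtain ⟨q, e, -, -, -, he⟩ := exists_model22 hB hα
  obtain ⟨g, hg0, hg1⟩ := exists_map_two swap_pair.2.2
    (e.injective.ne (show (none : Option (Option α)) ≠ some none by simp))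
  let E : Option (Option α) ≃ GolayPt := e.trans (g : Equiv.Perm GolayPt).symm
  have hE0 : E none = Golay.pt 1 := by
    show (g : Equiv.Perm GolayPt).symm (e none) = _
    rw [← hg0, Subgroup.smul_def, Equiv.Perm.smul_def, Equiv.symm_apply_apply]
  have hE1 : E (some none) = Golay.pt 21 := by
    show (g : Equiv.Perm GolayPt).symm (e (some none)) = _
    rw [← hg1, Subgroup.smul_def, Equiv.Perm.smul_def, Equiv.symm_apply_apply]
  have hEB : ∀ b, b ∈ B ↔ (lift22 b).image E ∈ octads := fun b => by
    rw [he b, show (lift22 b).image e = ((lift22 b).image E).image (g : Equiv.Perm GolayPt) by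
      rw [Finset.image_image]; exact Finset.image_congr fun x _ => by simp [E], mem_octads_image_iff]
  let ρ : Option (Option α) ≃ Option (Option α) :=
    (Equiv.swap none (some none)).trans ((E.trans swapPerm).trans E.symm)
  have hρ0 : ρ none = none := by
    simp only [ρ, Equiv.trans_apply, Equiv.swap_apply_left, hE1, swap_pair.2.1]
    rw [← hE0, Equiv.symm_apply_apply]
  have hρ1 : ρ (some none) = some none := by
    simp only [ρ, Equiv.trans_apply, Equiv.swap_apply_right, hE0, swap_pair.1]
    rw [← hE1, Equiv.symm_apply_apply]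
  let ρ1 : Option α ≃ Option α := Equiv.removeNone ρ
  have hρ1' : ∀ o, some (ρ1 o) = ρ (some o) := fun o => Equiv.removeNone_some _ (by
    rcases h : ρ (some o) with _ | y
    · exact absurd (ρ.injective (h.trans hρ0.symm)) (by simp)
    · exact ⟨y, rfl⟩)
  have hρ10 : ρ1 none = none := Option.some_injective _ ((hρ1' none).trans hρ1)
  let π : Equiv.Perm α := Equiv.removeNone ρ1
  have hπ : ∀ a, some (π a) = ρ1 (some a) := fun a => Equiv.removeNone_some _ (by
    rcases h : ρ1 (some a) with _ | y
    · exact absurd (ρ1.injective (h.trans hρ10.symm)) (by simp)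
    · exact ⟨y, rfl⟩)
  have hkey : ∀ a, E (some (some (π a))) = swapPerm (E (some (some a))) := fun a => by
    rw [hπ, hρ1']
    simp [ρ, Equiv.swap_apply_of_ne_of_ne]
  have hlift : ∀ b : Finset α, (lift22 (b.image π)).image E = ((lift22 b).image E).image swapPerm := by
    intro b
    ext x
    obtain ⟨o, rfl⟩ := E.surjective x
    rw [E.injective.mem_finset_image]
    simp only [lift22, Finset.mem_image, Finset.mem_insertNone, exists_exists_and_eq_and,
      Option.mem_def]
    constructor
    · intro h
      rcases o with _ | _ | a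
      · exact ⟨some none, by simp, by rw [hE1, swap_pair.2.1, hE0]⟩
      · exact ⟨none, by simp, by rw [hE0, swap_pair.1, hE1]⟩
      · obtain ⟨a', ha', rfl⟩ := h (some a) rfl a rfl
        exact ⟨some (some a'), by simpa using ha', (hkey a').symm⟩
    · rintro ⟨o', ho', hx⟩ o1 rfl a rfl
      rcases o' with _ | _ | a'
      · rw [hE0, swap_pair.1, ← hE1, E.injective.eq_iff] at hx; simp at hx
      · rw [hE1, swap_pair.2.1, ← hE0, E.injective.eq_iff] at hx; simp at hx
      · rw [← hkey, E.injective.eq_iff] at hx
        exact ⟨a', ho' (some a') rfl a' rfl, by simpa using hx⟩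
  refine ⟨π, mem_aut_iff.mpr fun b hb => (hEB _).mpr ?_, ?_, ?_, ?_⟩
  · rw [hlift]; exact Golay.M24_octad swapPerm_mem ((hEB b).mp hb)
  · ext a
    apply (Option.some_injective _).comp (Option.some_injective α)
    apply E.injective
    simp only [Function.comp_apply, Equiv.Perm.mul_apply, Equiv.Perm.one_apply, hkey]
    exact swapList_invol _
  · rw [← swap_points, ← Finset.card_image_of_injective _
      (E.injective.comp ((Option.some_injective _).comp (Option.some_injective α)))]
    congr 1
    ext x
    obtain ⟨o, rfl⟩ := E.surjective x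
    rw [← hE0, ← hE1]
    simp only [Finset.mem_image, Finset.mem_filter, Finset.mem_univ, true_and, Function.comp_apply,
      E.injective.eq_iff, ne_eq]
    rcases o with _ | _ | a
    · simp
    · simp
    · simp [← hkey, E.injective.eq_iff]
  · set Φ : Finset α → Finset GolayPt := fun b => (lift22 b).image E with hΦ
    have hΦinj : Function.Injective Φ := fun b c h => by
      have h' := Finset.image_injective E.injective h
      ext a
      simpa [lift22] using congrArg (fun s : Finset (Option (Option α)) => some (some a) ∈ s) h'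
    have hwinj : Set.InjOn (fun c => Golay.pts (Golay.word c)) (pairWords : Set ℕ) := fun a ha b hb h => by
      simp only [pairWords, Finset.coe_filter, Set.mem_ofPred_eq, Finset.mem_range] at ha hb
      exact Golay.word_inj ha.1 hb.1 h
    have heq : (blocks B).image Φ = pairWords.image fun c => Golay.pts (Golay.word c) := by
      refine Finset.eq_of_subset_of_card_le (fun o ho => ?_) ?_
      · obtain ⟨b, hb, rfl⟩ := Finset.mem_image.mp ho
        obtain ⟨c, hc, hw, hcb⟩ := (Golay.mem_octads_iff _).mp ((hEB b).mp (mem_blocks.mp hb))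
        have hin : ∀ i < 24, Golay.pt i ∈ Φ b → (Golay.word c).testBit i = true := by
          intro i hi h
          rw [show Φ b = Golay.pts (Golay.word c) from hcb] at h
          simpa [Golay.pts, Golay.idx_pt i hi] using h
        refine Finset.mem_image.mpr ⟨c, Finset.mem_filter.mpr ⟨Finset.mem_range.mpr hc, hw,
          hin 1 (by norm_num) ?_, hin 21 (by norm_num) ?_⟩, hcb.symm⟩
        · rw [← hE0]; exact Finset.mem_image_of_mem _ (by simp [lift22])
        · rw [← hE1]; exact Finset.mem_image_of_mem _ (by simp [lift22])
      · rw [Finset.card_image_of_injOn hwinj, Finset.card_image_of_injective _ hΦinj, card_pairWords]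
        have h := count_eq hB (i := 0) (n := 77) (by norm_num) (by rw [hα]; decide) (by decide) ∅ rfl
        simpa using h.ge
    rw [← Finset.card_image_of_injective _ hΦinj, ← card_pairWords_fixed,
      ← Finset.card_image_of_injOn (hwinj.mono (Finset.coe_subset.mpr (Finset.filter_subset _ _)))]
    have hfix : ∀ c, Golay.permMask swapList (Golay.word c) 24 = Golay.word c → c < 4096 →
        (Golay.pts (Golay.word c)).image swapPerm = Golay.pts (Golay.word c) := fun c h _ => by
      rw [← Golay.pts_permMask, toList_swapPerm, h]
    congr 1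
    ext o
    simp only [Finset.mem_image, Finset.mem_filter]
    constructor
    · rintro ⟨b, ⟨hb, hπb⟩, rfl⟩
      obtain ⟨c, hc, hcb⟩ := Finset.mem_image.mp (heq ▸ Finset.mem_image_of_mem Φ hb)
      refine ⟨c, ⟨hc, ?_⟩, hcb⟩
      have h1 : (Golay.pts (Golay.word c)).image swapPerm = Golay.pts (Golay.word c) := by
        rw [hcb]; show ((lift22 b).image E).image swapPerm = _; rw [← hlift, hπb]
      rw [← Golay.pts_permMask, toList_swapPerm] at h1
      refine Golay.pts_inj ?_ (Golay.word_lt c (Finset.mem_range.mp (Finset.mem_filter.mp hc).1)) h1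
      rw [← toList_swapPerm]; exact Golay.permMask_lt _ _
    · rintro ⟨c, ⟨hc, hcf⟩, rfl⟩
      obtain ⟨b, hb, hcb⟩ := Finset.mem_image.mp (heq.symm ▸ Finset.mem_image_of_mem (fun c => Golay.pts (Golay.word c)) hc)
      refine ⟨b, ⟨hb, hΦinj ?_⟩, hcb⟩
      show (lift22 (b.image π)).image E = Φ b
      rw [hlift]
      show (Φ b).image swapPerm = Φ b
      rw [hcb, hfix c hcf (Finset.mem_range.mp (Finset.mem_filter.mp hc).1)]

end Cfsg.Agent.HSGraph
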