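import Cfsg.Agent.HSGraph.Aut
import Cfsg.Agent.HSGraph.Swap
import Cfsg.Agent.HSGraph.Hundred

/-!
# The simple subgroup of index 2
-/

set_option autoImplicit false
set_option linter.unusedSectionVars false

namespace Cfsg.Agent.HSGraph

open Finset Cfsg CfsgLib.Steiner MulAction

/-- The sign of an involution. -/
lemma sign_involution {V : Type*} [Fintype V] [DecidableEq V] (f : Equiv.Perm V) (h : f * f = 1) :
    Equiv.Perm.sign f = (-1) ^ (f.support.card / 2) := by
  have hrep : f.cycleType = Multiset.replicate (Multiset.card f.cycleType) 2 := by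
    haveI : Fact (Nat.Prime 2) := ⟨Nat.prime_two⟩
    exact Multiset.eq_replicate_card.mpr (Equiv.Perm.pow_prime_eq_one_iff.mp (by rw [pow_two, h]))
  have hsum : f.cycleType.sum = 2 * Multiset.card f.cycleType := by
    conv_lhs => rw [hrep]
    simp [Multiset.sum_replicate, mul_comm]
  rw [Equiv.Perm.sign_of_cycleType, ← Equiv.Perm.sum_cycleType, hsum, Nat.mul_div_cancel_left _ two_pos,
    show 2 * Multiset.card f.cycleType + Multiset.card f.cycleType = Multiset.card f.cycleType +
      2 * Multiset.card f.cycleType by ring, pow_add, pow_mul]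
  simp

variable {α : Type*} [Fintype α] [DecidableEq α] {B : Set (Finset α)}

lemma extend_none (g : ↥(setSystemAut B)) : extend g none = none := rfl

lemma extend_bl (g : ↥(setSystemAut B)) (b : B) :
    ∃ c : B, extend g (bl b) = bl c ∧ (c : Finset α) = (b : Finset α).image g.1 :=
  ⟨_, rfl, rfl⟩

/-- `extend` as a homomorphism. -/
noncomputable def extendHom : ↥(setSystemAut B) →* (pointBlockGraph B ≃g pointBlockGraph B) :=
  MonoidHom.mk' extend fun g h => RelIso.ext fun x => by
    rw [RelIso.mul_apply]
    rcases vertex_cases x with rfl | ⟨a, rfl⟩ | ⟨b, rfl⟩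
    · rfl
    · rfl
    · obtain ⟨c, hc, hc'⟩ := extend_bl h b
      obtain ⟨d, hd, hd'⟩ := extend_bl (g * h) b
      obtain ⟨k, hk, hk'⟩ := extend_bl g c
      rw [hd, hc, hk]
      refine congrArg bl (Subtype.ext ?_)
      rw [hd', hk', hc', Finset.image_image]
      exact Finset.image_congr fun a _ => rfl

/-- The permutation of the vertices. -/
def toPermHom : (pointBlockGraph B ≃g pointBlockGraph B) →* Equiv.Perm (Option (α ⊕ B)) :=
  MonoidHom.mk' (fun f => f.toEquiv) fun _ _ => rfl

open Classical in
/-- The sign of the permutation of the vertices. -/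
noncomputable def sgn : (pointBlockGraph B ≃g pointBlockGraph B) →* ℤˣ :=
  Equiv.Perm.sign.comp toPermHom

variable (hB : IsSteinerSystem 3 6 B) (hα : Fintype.card α = 22)
include hB hα

open Classical in
lemma exists_odd : ∃ g : ↥(setSystemAut B), sgn (extendHom g) = -1 := by
  obtain ⟨π, hπ, hπ2, hp, hb⟩ := exists_swap hB hα
  refine ⟨⟨π, hπ⟩, ?_⟩
  set f := toPermHom (extendHom ⟨π, hπ⟩) with hf
  have hff : f * f = 1 := by
    rw [hf, ← map_mul, ← map_mul, show (⟨π, hπ⟩ * ⟨π, hπ⟩ : ↥(setSystemAut B)) = 1 from Subtype.ext hπ2,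
      map_one, map_one]
  have hfp : ∀ a, f (pt B a) = pt B (π a) := fun a => extend_pt hB hα _ a
  have hfb : ∀ b : B, f (bl b) = bl b ↔ (b : Finset α).image π = b := fun b => by
    obtain ⟨c, hc, hc'⟩ := extend_bl ⟨π, hπ⟩ b
    rw [show f (bl b) = bl c from hc, ← hc']
    simp [bl, Subtype.ext_iff]
  have hsupp : f.support.card = 70 := by
    rw [show f.support = univ.filter fun x => f x ≠ x from by ext x; simp [Equiv.Perm.mem_support]]
    refine Eq.trans (by convert! rfl) ((card_filter_vertices hB hα _).trans ?_)
    have e1 : ((univ : Finset α).filter fun a => f (pt B a) ≠ pt B a).card = 14 := by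
      rw [← hp]; congr 1; ext a; simp [hfp, pt]
    have e2 : ((univ : Finset B).filter fun b => ¬ (f (bl b) = bl b)).card = 56 := by
      have h1 : ((univ : Finset B).filter fun b => f (bl b) = bl b).card = 21 := by
        rw [← hb]
        simp only [hfb]
        exact card_sub (B := B) (fun b => b.image π = b)
      have h2 := Finset.card_filter_add_card_filter_not (s := (univ : Finset B)) fun b => f (bl b) = bl b
      have h3 : Fintype.card B = 77 := by convert! card_all hB hα
      rw [Finset.card_univ, h3, h1] at h2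
      omega
    rw [if_neg (fun h => h rfl)]; convert! congrArg₂ (· + ·) (congrArg (0 + ·) e1) e2
  show Equiv.Perm.sign f = -1
  rw [sign_involution f hff, hsupp]
  decide

/-- The even automorphisms. -/
noncomputable def evenAut : Subgroup (pointBlockGraph B ≃g pointBlockGraph B) := (sgn (B := B)).ker

lemma index_ker {G : Type*} [Group G] (φ : G →* ℤˣ) {g : G} (hg : φ g = -1) : φ.ker.index = 2 := by
  have hs : Function.Surjective φ := fun u => by
    rcases Int.units_eq_one_or u with rfl | rfl
    exacts [⟨1, map_one φ⟩, ⟨g, hg⟩]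
  rw [Subgroup.index_ker, φ.range_eq_top.mpr hs, Subgroup.card_top, Nat.card_eq_fintype_card]
  rfl

omit hB hα in
/-- A subgroup of index 2 of a group having a simple subgroup of index 2 of large order is that subgroup. -/
lemma eq_of_index_two {G : Type*} [Group G] [Finite G] {M K : Subgroup G} [IsSimpleGroup M]
    (hM : M.index = 2) (hK : K.index = 2) (h3 : 2 < Nat.card M) : K = M := by
  haveI := Subgroup.normal_of_index_eq_two hK
  haveI hn : (K.subgroupOf M).Normal := inferInstance
  rcases hn.eq_bot_or_eq_top with h | h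
  · exfalso
    have h1 : (K.subgroupOf M).index = Nat.card M := by rw [h, Subgroup.index_bot]
    have h2 : K.relIndex M ∣ K.index := Subgroup.relIndex_dvd_index_of_normal K M
    rw [show K.relIndex M = (K.subgroupOf M).index from rfl, h1, hK] at h2
    exact absurd (Nat.le_of_dvd two_pos h2) (not_le.mpr h3)
  · refine (Subgroup.eq_of_le_of_card_ge (Subgroup.subgroupOf_eq_top.mp h) ?_).symm
    have := K.card_mul_index
    have := M.card_mul_index
    rw [hK] at *
    rw [hM] at *
    omega

open Classical in
theorem isHS_evenAut : IsHS (evenAut (B := B)) := by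
  obtain ⟨g₀, hg₀⟩ := exists_odd hB hα
  have hG : Nat.card (pointBlockGraph B ≃g pointBlockGraph B) = 88704000 := card_aut hB hα
  haveI : Finite (pointBlockGraph B ≃g pointBlockGraph B) := Nat.finite_of_card_ne_zero (by omega)
  have hcard : Nat.card (evenAut (B := B)) = 44352000 := by
    have := (evenAut (B := B)).card_mul_index
    rw [show (evenAut (B := B)).index = 2 from index_ker hB hα _ hg₀, hG] at this
    omega
  obtain ⟨hA, hA3, M, hM2, hMs, hMc⟩ := aut22 hB hα
  haveI := hMs
  set K := ((sgn (B := B)).comp extendHom).ker with hK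
  have hKM : K = M := eq_of_index_two hM2
    (index_ker hB hα _ (show (sgn.comp extendHom) g₀ = -1 from hg₀)) (by rw [hMc]; norm_num)
  have hmemM : ∀ m : M, extendHom (m : ↥(setSystemAut B)) ∈ evenAut (B := B) := fun m => by
    have : (m : ↥(setSystemAut B)) ∈ K := hKM ▸ m.2
    exact this
  letI : MulAction (evenAut (B := B)) (Option (α ⊕ B)) :=
    MulAction.compHom _ ((toPermHom (B := B)).comp (evenAut (B := B)).subtype)
  have hsmul : ∀ (f : evenAut (B := B)) x, f • x = (f : pointBlockGraph B ≃g pointBlockGraph B) x :=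
    fun f x => rfl
  haveI : FaithfulSMul (evenAut (B := B)) (Option (α ⊕ B)) :=
    ⟨fun h => Subtype.ext (RelIso.ext h)⟩
  haveI : IsPretransitive (evenAut (B := B)) (Option (α ⊕ B)) := by
    refine (isPretransitive_iff_base none).mpr fun v => ?_
    obtain ⟨f, hf⟩ := exists_move_any hB hα v
    rcases Int.units_eq_one_or (sgn f) with h | h
    · exact ⟨⟨f, h⟩, hf⟩
    · refine ⟨⟨f * extendHom g₀, ?_⟩, ?_⟩
      · show sgn (f * extendHom g₀) = 1
        rw [map_mul, h, hg₀]; rfl
      · show f (extend g₀ none) = v
        rw [extend_none, hf]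
  have hX : Nat.card (Option (α ⊕ B)) = 100 := by
    rw [Nat.card_eq_fintype_card, Fintype.card_option, Fintype.card_sum, hα,
      show Fintype.card B = 77 by convert! card_all hB hα]
  -- the stabiliser
  let φ : M →* stabilizer (evenAut (B := B)) (none : Option (α ⊕ B)) :=
    ((extendHom.comp M.subtype).codRestrict _ hmemM).codRestrict _ fun m => extend_none _
  have hφ : Function.Bijective φ := by
    refine ⟨fun m m' h => Subtype.ext (extend_injective hB hα
      (congrArg (fun x : stabilizer (evenAut (B := B)) none => (x.1.1)) h)), fun s => ?_⟩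
    obtain ⟨g, hg⟩ := exists_extend_eq hB hα (s.1 : pointBlockGraph B ≃g pointBlockGraph B) s.2
    have hgM : g ∈ M := by
      rw [← hKM]
      show sgn (extend g) = 1
      rw [hg]
      exact s.1.2
    exact ⟨⟨g, hgM⟩, Subtype.ext (Subtype.ext hg)⟩
  haveI : IsSimpleGroup (stabilizer (evenAut (B := B)) (none : Option (α ⊕ B))) :=
    (MulEquiv.ofBijective φ hφ).symm.isSimpleGroup
  -- transitivity of the stabiliser on points and on blocks
  haveI := hA3
  haveI : IsMultiplyPretransitive (setSystemAut B) α 2 :=
    MulAction.isMultiplyPretransitive_of_le (n := 3) (by norm_num)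
      (by simp [ENat.card_eq_coe_fintype_card, hα])
  haveI hprim : IsPreprimitive (setSystemAut B) α := MulAction.isPreprimitive_of_is_two_pretransitive inferInstance
  haveI := Subgroup.normal_of_index_eq_two hM2
  haveI : Nontrivial M := inferInstance
  haveI hMp : IsPretransitive M α := by
    refine MulAction.IsQuasiPreprimitive.isPretransitive_of_normal (G := setSystemAut B) fun h => ?_
    have : ∀ m : M, m = 1 := fun m => Subtype.ext (Subtype.ext (Equiv.ext fun a => by
      have ha : a ∈ fixedPoints M α := h ▸ Set.mem_univ a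
      exact ha m))
    obtain ⟨x, y, hxy⟩ := exists_pair_ne M
    exact hxy ((this x).trans (this y).symm)
  have hMb : ∀ b c : B, ∃ m : M, (b : Finset α).image (m : ↥(setSystemAut B)).1 = (c : Finset α) := by
    have hall : ∀ b c : B, ∃ g : ↥(setSystemAut B), (b : Finset α).image g.1 = (c : Finset α) := by
      intro b c
      obtain ⟨T, hT, hT3⟩ := Finset.exists_subset_card_eq (s := (b : Finset α)) (n := 3)
        (by rw [hB.1 _ b.2]; norm_num)
      obtain ⟨T', hT', hT'3⟩ := Finset.exists_subset_card_eq (s := (c : Finset α)) (n := 3)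
        (by rw [hB.1 _ c.2]; norm_num)
      let u : Fin 3 ↪ α := (Fintype.equivFinOfCardEq (by simp [hT3] : Fintype.card T = 3)).symm.toEmbedding.trans
        (Function.Embedding.subtype _)
      let v : Fin 3 ↪ α := (Fintype.equivFinOfCardEq (by simp [hT'3] : Fintype.card T' = 3)).symm.toEmbedding.trans
        (Function.Embedding.subtype _)
      obtain ⟨g, hg⟩ := exists_smul_eq (setSystemAut B) u v
      refine ⟨g, (hB.2 T' hT'3).unique ⟨mem_aut_iff.mp g.2 _ b.2, fun x hx => ?_⟩ ⟨c.2, hT'⟩⟩
      obtain ⟨i, hi⟩ := (Fintype.equivFinOfCardEq (by simp [hT'3] : Fintype.card T' = 3)).symm.surjective ⟨x, hx⟩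
      have : g.1 (u i) = x := by
        have := congrArg (fun w : Fin 3 ↪ α => w i) hg
        exact this.trans (congrArg Subtype.val hi)
      exact Finset.mem_image.mpr ⟨u i, hT (Subtype.prop _), this⟩
    have himg : ∀ (g h : ↥(setSystemAut B)) (s : Finset α), s.image (g * h).1 = (s.image h.1).image g.1 := by
      intro g h s; rw [Finset.image_image]; exact Finset.image_congr fun a _ => rfl
    intro b c
    by_contra hcon
    push Not at hcon
    obtain ⟨u, hu⟩ := hall b c
    have huM : u ∉ M := fun h => hcon ⟨u, h⟩ hu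
    have htM : ∀ t : ↥(setSystemAut B), (b : Finset α).image t.1 = (b : Finset α) → t ∈ M := fun t ht => by
      by_contra htn
      exact hcon ⟨u * t, (Subgroup.mul_mem_iff_of_index_two hM2).mpr (iff_of_false huM htn)⟩
        (by rw [himg, ht, hu])
    set O := (blocks B).filter fun d => ∃ m : M, (b : Finset α).image (m : ↥(setSystemAut B)).1 = d with hO
    set O' := (blocks B).filter fun d => ¬ ∃ m : M, (b : Finset α).image (m : ↥(setSystemAut B)).1 = d with hO'
    have hOO : O.image (fun d => d.image u.1) = O' := by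
      ext d
      simp only [hO, hO', Finset.mem_image, Finset.mem_filter, mem_blocks]
      constructor
      · rintro ⟨d, ⟨hd, m, rfl⟩, rfl⟩
        refine ⟨mem_aut_iff.mp u.2 _ hd, ?_⟩
        rintro ⟨m', hm'⟩
        rw [← himg] at hm'
        have h1 : (b : Finset α).image ((m' : ↥(setSystemAut B))⁻¹ * (u * m)).1 = (b : Finset α) := by
          rw [himg, ← hm', ← himg, inv_mul_cancel]
          simp
        have h2 := htM _ h1
        have h3 : u * (m : ↥(setSystemAut B)) ∈ M := by simpa using M.mul_mem m'.2 h2
        exact huM ((M.mul_mem_cancel_right m.2).mp h3)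
      · rintro ⟨hd, hno⟩
        obtain ⟨g, hg⟩ := hall b ⟨d, hd⟩
        have hgM : g ∉ M := fun h => hno ⟨⟨g, h⟩, hg⟩
        have hm0 : u⁻¹ * g ∈ M := (Subgroup.mul_mem_iff_of_index_two hM2).mpr
          (iff_of_false (fun h => huM (by simpa using M.inv_mem h)) hgM)
        refine ⟨(b : Finset α).image (u⁻¹ * g).1, ⟨mem_aut_iff.mp (u⁻¹ * g).2 _ b.2, ⟨_, hm0⟩, rfl⟩, ?_⟩
        rw [← himg, mul_inv_cancel_left]
        exact hg
    have h1 : O.card = O'.card := by
      rw [← hOO, Finset.card_image_of_injective _ (Finset.image_injective u.1.injective)]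
    have h2 := Finset.card_filter_add_card_filter_not (s := blocks B)
      fun d => ∃ m : M, (b : Finset α).image (m : ↥(setSystemAut B)).1 = d
    have h3 : (blocks B).card = 77 := by
      have h := count_eq hB (i := 0) (n := 77) (by norm_num) (by rw [hα]; decide) (by decide) ∅ rfl
      simpa using h
    rw [h3] at h2
    change O.card + O'.card = 77 at h2
    omega
  refine ⟨isSimpleGroup_hundred (X := Option (α ⊕ B)) none hX fun O hO hOinv => ?_, hcard⟩
  have hm : ∀ (m : M) x, x ∈ O → extend (m : ↥(setSystemAut B)) x ∈ O := fun m x hx =>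
    hOinv (φ m).1 (φ m).2 x hx
  have key : O.ncard = (if (none : Option (α ⊕ B)) ∈ O then 1 else 0) +
      ((univ : Finset α).filter fun a => pt B a ∈ O).card + ((univ : Finset B).filter fun b => bl b ∈ O).card := by
    rw [← card_filter_vertices hB hα, ← Set.ncard_coe_finset]
    congr 1; ext x; simp
  have hpts : ((univ : Finset α).filter fun a => pt B a ∈ O).card = 0 ∨
      ((univ : Finset α).filter fun a => pt B a ∈ O).card = 22 := by
    by_cases h : ∃ a, pt B a ∈ O
    · right
      obtain ⟨a, ha⟩ := h
      rw [Finset.filter_true_of_mem fun a' _ => ?_, Finset.card_univ, hα]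
      obtain ⟨m, rfl⟩ := exists_smul_eq M a a'
      exact hm m _ ha
    · exact Or.inl (Finset.card_eq_zero.mpr (Finset.filter_false_of_mem fun a _ ha => h ⟨a, ha⟩))
  have hbls : ((univ : Finset B).filter fun b => bl b ∈ O).card = 0 ∨
      ((univ : Finset B).filter fun b => bl b ∈ O).card = 77 := by
    by_cases h : ∃ b : B, bl b ∈ O
    · right
      obtain ⟨b, hb⟩ := h
      rw [Finset.filter_true_of_mem fun b' _ => ?_, Finset.card_univ, show Fintype.card B = 77 by convert! card_all hB hα]
      obtain ⟨m, hm'⟩ := hMb b b'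
      obtain ⟨c, hc, hc'⟩ := extend_bl (m : ↥(setSystemAut B)) b
      have := hm m _ hb
      rwa [hc, show c = b' from Subtype.ext (hc'.trans hm')] at this
    · exact Or.inl (Finset.card_eq_zero.mpr (Finset.filter_false_of_mem fun b _ hb => h ⟨b, hb⟩))
  rw [key, if_pos hO]
  omega

end Cfsg.Agent.HSGraph
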