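import Cfsg.Agent.HSGraph.Residual
import Cfsg.Agent.HSGraph.HS
import Cfsg.Agent.Leech.StabSimple
import Cfsg.Agent.Leech.CountFive
import Cfsg.Agent.Leech.MiddleOrbit

/-!
# The Higman–Sims group in the lattice
-/

set_option autoImplicit false

namespace Cfsg.Agent.HSGraph.Lat

open Cfsg CfsgLib CfsgLib.Golay MulAction

attribute [local irreducible] CfsgLib.Leech.shortVecs CfsgLib.Leech.halfTable CfsgLib.Leech.quarterTable

/-- A 0/1 indicator. -/
def e1 (s : Finset GolayPt) (p : GolayPt) : ℤ := if p ∈ s then 1 else 0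

lemma sum_e1 (s : Finset GolayPt) : ∑ p, e1 s p = s.card := by
  simp [e1]

lemma sum_e1_mul (s t : Finset GolayPt) : ∑ p, e1 s p * e1 t p = (s ∩ t).card := by
  rw [← sum_e1]
  refine Finset.sum_congr rfl fun p _ => ?_
  simp only [e1, Finset.mem_inter]
  split_ifs <;> simp_all

/-- The lattice vector of a vertex. -/
def vtxVec : Option (Rest ⊕ restBlocks) → GolayPt → ℤ
  | none => fun p => 4 * e1 {none} p + 4 * e1 {some 0} p
  | some (Sum.inl a) => fun p => 1 - 4 * e1 {(a : GolayPt)} p
  | some (Sum.inr b) => fun p => 2 * e1 (full b.1) p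

lemma test_none : Leech.LeechTest (vtxVec none) := by decide +kernel

lemma test_pt : ∀ a : Rest, Leech.LeechTest (vtxVec (some (Sum.inl a))) := by decide +kernel

lemma vtxVec_mem (x : Option (Rest ⊕ restBlocks)) : vtxVec x ∈ leechLattice := by
  rcases x with _ | (a | b)
  · exact Leech.mem_of_test test_none
  · exact Leech.mem_of_test (test_pt a)
  · refine (Leech.two_mul_mem_iff (e1 (full b.1))).mpr ⟨?_, ?_⟩
    · obtain ⟨w, hw, hwo⟩ := b.2.1
      convert! hw using 1
      funext i
      have hi : i ∈ full b.1 ↔ w i ≠ 0 := by rw [← hwo]; simp [support₂]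
      rcases Leech.eq_zero_or_one (w i) with h | h
      · rw [e1, if_neg (fun h' => hi.mp h' h), Int.cast_zero, h]
      · rw [e1, if_pos (hi.mpr (by rw [h]; exact one_ne_zero)), Int.cast_one, h]
    · rw [sum_e1, Golay.octad_card b.2]; norm_num

/-- The vertex as a lattice point. -/
def vtx (x : Option (Rest ⊕ restBlocks)) : leechLattice := ⟨vtxVec x, vtxVec_mem x⟩

lemma dot_none_pt (a : Rest) : dotInt (vtxVec none) (vtxVec (some (Sum.inl a))) = 8 := by
  revert a; decide +kernel

lemma dot_pt_pt (a a' : Rest) : dotInt (vtxVec (some (Sum.inl a))) (vtxVec (some (Sum.inl a'))) =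
    if a = a' then 32 else 16 := by
  revert a a'; decide +kernel

lemma dot_none_none : dotInt (vtxVec none) (vtxVec none) = 32 := by decide +kernel

lemma dot_none_bl (b : restBlocks) : dotInt (vtxVec none) (vtxVec (some (Sum.inr b))) = 16 := by
  simp only [dotInt, vtxVec]
  have : ∀ p, (4 * e1 {none} p + 4 * e1 {some 0} p) * (2 * e1 (full b.1) p) =
      8 * (e1 {none} p * e1 (full b.1) p) + 8 * (e1 {some 0} p * e1 (full b.1) p) := fun p => by ring
  simp only [this, Finset.sum_add_distrib, ← Finset.mul_sum, sum_e1_mul]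
  rw [Finset.singleton_inter_of_mem (by simp [full]), Finset.singleton_inter_of_mem (by simp [full])]
  norm_num

lemma dot_pt_bl (a : Rest) (b : restBlocks) :
    dotInt (vtxVec (some (Sum.inl a))) (vtxVec (some (Sum.inr b))) = if a ∈ b.1 then 8 else 16 := by
  simp only [dotInt, vtxVec]
  have : ∀ p, (1 - 4 * e1 {(a : GolayPt)} p) * (2 * e1 (full b.1) p) =
      2 * e1 (full b.1) p - 8 * (e1 {(a : GolayPt)} p * e1 (full b.1) p) := fun p => by ring
  simp only [this, Finset.sum_sub_distrib, ← Finset.mul_sum, sum_e1_mul, sum_e1, Golay.octad_card b.2]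
  by_cases h : a ∈ b.1
  · rw [if_pos h, Finset.singleton_inter_of_mem ((mem_full a).mpr h)]; norm_num
  · rw [if_neg h, Finset.singleton_inter_of_notMem (fun h' => h ((mem_full a).mp h'))]; norm_num

lemma dot_bl_bl (b c : restBlocks) :
    dotInt (vtxVec (some (Sum.inr b))) (vtxVec (some (Sum.inr c))) =
      4 * ((b.1 ∩ c.1).card + 2 : ℕ) := by
  simp only [dotInt, vtxVec]
  have : ∀ p, 2 * e1 (full b.1) p * (2 * e1 (full c.1) p) = 4 * (e1 (full b.1) p * e1 (full c.1) p) :=
    fun p => by ring
  simp only [this, ← Finset.mul_sum, sum_e1_mul, full_inter, card_full]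

lemma dot_comm (x y : GolayPt → ℤ) : dotInt x y = dotInt y x := by
  simp [dotInt, mul_comm]

open Classical in
/-- Inner products detect adjacency and equality. -/
lemma dot_table (x y : Option (Rest ⊕ restBlocks)) : dotInt (vtxVec x) (vtxVec y) =
    if x = y then 32 else if (pointBlockGraph restBlocks).Adj x y then 8 else 16 := by
  have sym : ∀ {p q : Option (Rest ⊕ restBlocks)}, (dotInt (vtxVec p) (vtxVec q) =
      if p = q then 32 else if (pointBlockGraph restBlocks).Adj p q then 8 else 16) →
      (dotInt (vtxVec q) (vtxVec p) =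
      if q = p then 32 else if (pointBlockGraph restBlocks).Adj q p then 8 else 16) := fun {p q} h => by
    rw [dot_comm, h]; simp [eq_comm, SimpleGraph.adj_comm]
  have h0p : ∀ a : Rest, dotInt (vtxVec none) (vtxVec (pt restBlocks a)) = _ := fun a => dot_none_pt a
  rcases vertex_cases x with rfl | ⟨a, rfl⟩ | ⟨b, rfl⟩ <;>
    rcases vertex_cases y with rfl | ⟨a', rfl⟩ | ⟨c, rfl⟩
  · rw [dot_none_none, if_pos rfl]
  · rw [h0p, if_neg (by simp [pt]), if_pos ((adj_none _).mpr ⟨a', rfl⟩)]
  · rw [show dotInt (vtxVec none) (vtxVec (bl c)) = 16 from dot_none_bl c, if_neg (by simp [bl]),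
      if_neg (fun h => not_adj_bl_none c h.symm)]
  · apply sym; rw [h0p, if_neg (by simp [pt]), if_pos ((adj_none _).mpr ⟨a, rfl⟩)]
  · rw [show dotInt (vtxVec (pt restBlocks a)) (vtxVec (pt restBlocks a')) = _ from dot_pt_pt a a',
      if_neg (not_adj_pt a a')]
    simp [pt]
  · rw [show dotInt (vtxVec (pt restBlocks a)) (vtxVec (bl c)) = _ from dot_pt_bl a c,
      if_neg (show pt restBlocks a ≠ bl c by simp [pt, bl])]
    by_cases h : a ∈ c.1 <;> simp [h, adj_pt_bl]
  · apply sym
    rw [show dotInt (vtxVec none) (vtxVec (bl b)) = 16 from dot_none_bl b, if_neg (by simp [bl]),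
      if_neg (fun h => not_adj_bl_none b h.symm)]
  · apply sym
    rw [show dotInt (vtxVec (pt restBlocks a')) (vtxVec (bl b)) = _ from dot_pt_bl a' b,
      if_neg (show pt restBlocks a' ≠ bl b by simp [pt, bl])]
    by_cases h : a' ∈ b.1 <;> simp [h, adj_pt_bl]
  · rw [show dotInt (vtxVec (bl b)) (vtxVec (bl c)) = _ from dot_bl_bl b c]
    by_cases h : b = c
    · subst h
      rw [if_pos rfl, Finset.inter_self, restBlocks_steiner.1 _ b.2]
      norm_num
    · rw [if_neg (show bl b ≠ bl c by simp [bl, h])]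
      have hne : (b : Finset Rest) ≠ c := fun e => h (Subtype.ext e)
      rcases inter_rest b.2 c.2 hne with hi | hi
      · have hd : Disjoint (b : Finset Rest) c :=
          Finset.disjoint_iff_inter_eq_empty.mpr (Finset.card_eq_zero.mp hi)
        rw [hi, if_pos ((adj_bl_bl b c).mpr ⟨h, hd⟩)]; norm_num
      · have hd : ¬ Disjoint (b : Finset Rest) c := fun hd => by
          rw [Finset.disjoint_iff_inter_eq_empty.mp hd] at hi; simp at hi
        rw [hi, if_neg (fun h' => hd ((adj_bl_bl b c).mp h').2)]; norm_num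

/-- The vectors in question. -/
def Sel (x : GolayPt → ℤ) : Prop :=
  sqNorm x = 32 ∧ dotInt Spor.vecV x = -24 ∧ dotInt Spor.vecU' x = 0

lemma dot_vecV (x : GolayPt → ℤ) : dotInt Spor.vecV x = -(∑ p, x p) - 4 * x none := by
  have : ∀ p, Spor.vecV p * x p = -x p + (if p = none then -4 * x p else 0) := fun p => by
    simp only [Spor.vecV]; split_ifs <;> ring
  simp only [dotInt, this, Finset.sum_add_distrib, Finset.sum_neg_distrib, Finset.sum_ite_eq',
    Finset.mem_univ, if_true]
  ring

lemma dot_vecU' (x : GolayPt → ℤ) : dotInt Spor.vecU' x = 4 * x none - 4 * x (some 0) := by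
  have : ∀ p, Spor.vecU' p * x p = (if p = none then 4 * x p else 0) + (if p = some 0 then -4 * x p else 0) := fun p => by
    simp only [Spor.vecU']; split_ifs with h1 h2 <;> simp_all
  simp only [dotInt, this, Finset.sum_add_distrib, Finset.sum_ite_eq', Finset.mem_univ, if_true]
  ring

lemma sel_vtx (x : Option (Rest ⊕ restBlocks)) : Sel (vtxVec x) := by
  refine ⟨?_, ?_⟩
  · have h := dot_table x x
    rw [if_pos rfl] at h
    simpa [dotInt, sqNorm, pow_two] using h
  · rcases x with _ | (a | b)
    · exact ⟨by decide +kernel, by decide +kernel⟩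
    · exact ⟨by revert a; decide +kernel, by revert a; decide +kernel⟩
    · rw [dot_vecV, dot_vecU']
      simp only [vtxVec, ← Finset.mul_sum, sum_e1, Golay.octad_card b.2]
      simp [e1, full]

/-- The number of selected vectors. -/
lemma ncard_sel : {w : GolayPt → ℤ | w ∈ leechLattice ∧ Sel w}.ncard = 100 := by
  have hset : {w : GolayPt → ℤ | w ∈ leechLattice ∧ Sel w} =
      ⋃ a ∈ Finset.Icc (-4 : ℤ) 4, Leech.PinCount.pinned [none, some 0] [a, a] [24 - 4 * a] := by
    ext w
    simp only [Leech.PinCount.pinned, Sel, dot_vecV, dot_vecU', Set.mem_ofPred_eq, Set.mem_iUnion,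
      Finset.mem_Icc, List.zip_cons_cons, List.zip_nil_right, List.mem_cons, List.not_mem_nil, or_false,
      forall_eq_or_imp, forall_eq, exists_prop]
    constructor
    · rintro ⟨hw, hn, hd, hd'⟩
      exact ⟨w none, Leech.PinCount.min_value_le hw hn none, hw, hn, ⟨rfl, by omega⟩, by omega⟩
    · rintro ⟨a, -, hw, hn, ⟨h1, h2⟩, hs⟩
      exact ⟨hw, hn, by omega, by omega⟩
  have hfin : {w : GolayPt → ℤ | w ∈ leechLattice ∧ sqNorm w = 32}.Finite :=
    Set.finite_of_ncard_pos (by rw [Leech.ncard_norm_32]; norm_num)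
  rw [hset, ← Finset.set_biUnion_coe,
    Set.Finite.ncard_biUnion (Finset.Icc (-4 : ℤ) 4).finite_toSet
      (fun a _ => hfin.subset fun w hw => ⟨hw.1, hw.2.1⟩) ?_, finsum_mem_coe_finset]
  · refine (Finset.sum_congr rfl fun a ha => Leech.PinCount.ncard_pinned_pair a a
      (decide (a % 2 = 1)) (S := [24 - 4 * a]) (by simp) ?_).trans ?_
    · intro s hs
      rw [Finset.mem_Icc] at ha
      rw [List.mem_singleton] at hs
      subst hs
      by_cases h : a % 2 = 1 <;> simp only [h, decide_true, decide_false, if_true, if_false,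
        Bool.false_eq_true] <;> omega
    · decide +kernel
  · intro a _ b _ hab
    rw [Function.onFun, Set.disjoint_left]
    rintro w ⟨-, -, ha, -⟩ ⟨-, -, hb, -⟩
    exact hab ((ha (none, a) (by simp)).symm.trans (hb (none, b) (by simp)))

/-- The stabiliser of the two vectors. -/
def pairStab : Subgroup Co0 := stabilizer Co0 Spor.leechV ⊓ stabilizer Co0 Spor.leechU'

lemma sel_smul {g : Co0} (hg : g ∈ pairStab) {x : leechLattice} (hx : Sel x) : Sel (g • x : leechLattice) := by
  obtain ⟨h1, h2, h3⟩ := hx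
  refine ⟨(Leech.sqNorm_smul g x).trans h1, ?_, ?_⟩
  · have := Leech.dot_smul' g Spor.leechV x
    rw [show g • Spor.leechV = Spor.leechV from hg.1] at this
    exact this.trans h2
  · have := Leech.dot_smul' g Spor.leechU' x
    rw [show g • Spor.leechU' = Spor.leechU' from hg.2] at this
    exact this.trans h3

/-- The selected lattice points. -/
abbrev Pts : Type := {x : leechLattice // Sel (x : GolayPt → ℤ)}

/-- The vertices as selected points. -/
def toPts (x : Option (Rest ⊕ restBlocks)) : Pts := ⟨vtx x, sel_vtx x⟩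

lemma card_pts_sel : Nat.card Pts = 100 := by
  rw [show Nat.card Pts = {x : leechLattice | Sel (x : GolayPt → ℤ)}.ncard from Nat.card_coe_set_eq _,
    Leech.ncard_coe Sel, ncard_sel]

open Classical in
lemma toPts_bijective : Function.Bijective toPts := by
  haveI : Finite Pts := Nat.finite_of_card_ne_zero (by rw [card_pts_sel]; norm_num)
  refine (Nat.bijective_iff_injective_and_card _).mpr ⟨fun x y h => ?_, ?_⟩
  · have h' : vtxVec x = vtxVec y := congrArg (fun z : Pts => ((z.1 : leechLattice) : GolayPt → ℤ)) h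
    have := dot_table x y
    rw [h', dot_table y y, if_pos rfl] at this
    split_ifs at this with hxy
    · exact hxy
    all_goals norm_num at this
  · rw [card_pts_sel, Nat.card_eq_fintype_card, Fintype.card_option, Fintype.card_sum, card_rest,
      show Fintype.card restBlocks = 77 by convert! CfsgLib.Steiner.card_all restBlocks_steiner card_rest]

/-- The vertices and the selected points. -/
noncomputable def ptsEquiv : Option (Rest ⊕ restBlocks) ≃ Pts := Equiv.ofBijective _ toPts_bijective

/-- Action on the selected points. -/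
def actPts (g : pairStab) : Equiv.Perm Pts where
  toFun x := ⟨(g : Co0) • x.1, sel_smul g.2 x.2⟩
  invFun x := ⟨(g : Co0)⁻¹ • x.1, sel_smul (inv_mem g.2) x.2⟩
  left_inv x := Subtype.ext (inv_smul_smul _ _)
  right_inv x := Subtype.ext (smul_inv_smul _ _)

/-- The action of the stabiliser on the graph. -/
noncomputable def toAut : pairStab →* (pointBlockGraph restBlocks ≃g pointBlockGraph restBlocks) :=
  MonoidHom.mk' (fun g => ⟨(ptsEquiv.trans (actPts g)).trans ptsEquiv.symm, by
    intro x y
    classical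
    have key : ∀ z, (toPts ((ptsEquiv.trans (actPts g)).trans ptsEquiv.symm z)).1 = (g : Co0) • (toPts z).1 := fun z => by
      show (ptsEquiv (ptsEquiv.symm (actPts g (ptsEquiv z)))).1 = _
      rw [Equiv.apply_symm_apply]; rfl
    have h := Leech.dot_smul' (g : Co0) (toPts x).1 (toPts y).1
    rw [← key, ← key] at h
    simp only [toPts, vtx] at h
    rw [dot_table, dot_table] at h
    simp only [EmbeddingLike.apply_eq_iff_eq] at h
    by_cases hxy : x = y
    · subst hxy; exact iff_of_false (SimpleGraph.irrefl _) (SimpleGraph.irrefl _)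
    · rw [if_neg hxy, if_neg hxy] at h
      split_ifs at h with h1 h2
      · exact iff_of_true h1 h2
      · norm_num at h
      · norm_num at h
      · exact iff_of_false h1 ‹_›⟩)
  fun g h => RelIso.ext fun x => by
    show ptsEquiv.symm (actPts (g * h) (ptsEquiv x)) =
      ptsEquiv.symm (actPts g (ptsEquiv (ptsEquiv.symm (actPts h (ptsEquiv x)))))
    rw [Equiv.apply_symm_apply]
    exact congrArg ptsEquiv.symm (Subtype.ext (mul_smul _ _ _))

lemma toAut_injective : Function.Injective toAut := by
  rw [injective_iff_map_eq_one]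
  intro g hg
  have hfix : ∀ x : Pts, (g : Co0) • x.1 = x.1 := fun x => by
    have h := congrArg (fun f : pointBlockGraph restBlocks ≃g pointBlockGraph restBlocks =>
      ptsEquiv (f (ptsEquiv.symm x))) hg
    simp [toAut, actPts] at h
    exact congrArg Subtype.val h
  refine Subtype.ext (Leech.ext_co0 fun v => ?_)
  -- the fixed vectors
  let F : AddSubgroup leechLattice :=
    { carrier := {x | (g : Co0) • x = x}
      add_mem' := fun {x y} hx hy => by
        show (g : Co0) • (x + y) = x + y
        rw [Leech.smul_add', show (g : Co0) • x = x from hx, show (g : Co0) • y = y from hy]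
      zero_mem' := Leech.smul_zero' _
      neg_mem' := fun {x} hx => by
        show (g : Co0) • (-x) = -x
        rw [Leech.smul_neg', show (g : Co0) • x = x from hx] }
  let F' : AddSubgroup (GolayPt → ℤ) := F.map leechLattice.subtype
  have hV : Spor.vecV ∈ F' := ⟨Spor.leechV, g.2.1, rfl⟩
  have hU : Spor.vecU' ∈ F' := ⟨Spor.leechU', g.2.2, rfl⟩
  have hX : ∀ x, vtxVec x ∈ F' := fun x => ⟨vtx x, hfix (toPts x), rfl⟩
  have h8 : ∀ p, (fun i => if i = p then (8 : ℤ) else 0) ∈ F' := by
    have hnone : (fun i => if i = none then (8 : ℤ) else 0) ∈ F' := by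
      convert! F'.add_mem (hX none) hU using 1
      funext i
      simp only [Pi.add_apply, vtxVec, e1, Spor.vecU', Finset.mem_singleton]
      split_ifs <;> simp_all
    intro p
    by_cases h0 : p = none
    · subst h0; exact hnone
    by_cases h1 : p = some 0
    · subst h1
      convert! F'.sub_mem (hX none) hU using 1
      funext i
      simp only [Pi.sub_apply, vtxVec, e1, Spor.vecU', Finset.mem_singleton]
      split_ifs <;> simp_all
    convert! F'.neg_mem (F'.add_mem (F'.add_mem (F'.add_mem (hX (some (Sum.inl ⟨p, h0, h1⟩))) hV)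
      (F'.add_mem (hX (some (Sum.inl ⟨p, h0, h1⟩))) hV)) hnone) using 1
    funext i
    simp only [Pi.neg_apply, Pi.add_apply, vtxVec, e1, Spor.vecV, Finset.mem_singleton]
    split_ifs <;> simp_all
  have hv8 : (8 : ℤ) • (v : GolayPt → ℤ) ∈ F' := by
    have e : (8 : ℤ) • (v : GolayPt → ℤ) = ∑ p, (v : GolayPt → ℤ) p • fun i => if i = p then (8 : ℤ) else 0 := by
      funext i
      simp [Finset.sum_apply, mul_comm]
    rw [e]
    exact F'.sum_mem fun p _ => F'.zsmul_mem (h8 p) _
  obtain ⟨w, hw, hwe⟩ := hv8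
  have hw' : w = (8 : ℤ) • v := Subtype.ext hwe
  subst hw'
  have h1 : (g : Co0) • ((8 : ℤ) • v) = (8 : ℤ) • v := hw
  rw [Leech.smul_zsmul'] at h1
  refine Subtype.ext (funext fun i => ?_)
  have h2 := congrFun (congrArg Subtype.val h1) i
  simp only [AddSubgroup.coe_zsmul, Pi.smul_apply, smul_eq_mul] at h2
  show ((g : Co0) • v : leechLattice).1 i = ((1 : Co0) • v : leechLattice).1 i
  rw [one_smul]
  omega

lemma card_pairStab : Nat.card pairStab = 44352000 := by
  have hn : sqNorm (Spor.leechV : GolayPt → ℤ) = 48 := by show sqNorm Spor.vecV = 48; decide +kernel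
  have hu : sqNorm (Spor.leechU' : GolayPt → ℤ) = 32 := by show sqNorm Spor.vecU' = 32; decide +kernel
  have hd : dotInt (Spor.leechV : GolayPt → ℤ) (Spor.leechU' : GolayPt → ℤ) = -16 := by
    show dotInt Spor.vecV Spor.vecU' = -16; decide +kernel
  have horb : (orbit (stabilizer Co0 Spor.leechV) Spor.leechU').ncard = 11178 := by
    rw [← Leech.ncard_middle_sixteen hn]
    congr 1
    ext x
    constructor
    · rintro ⟨⟨g, hg⟩, rfl⟩
      refine ⟨(Leech.sqNorm_smul g _).trans hu, ?_⟩
      have := Leech.dot_smul' g Spor.leechV Spor.leechU'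
      rw [show g • Spor.leechV = Spor.leechV from hg] at this
      exact this.trans hd
    · rintro ⟨hx, hxd⟩
      obtain ⟨g, hg1, hg2⟩ := Leech.exists_fix_middle_sixteen hn hu hx hd hxd
      exact ⟨⟨g, hg1⟩, hg2⟩
  have he : Nat.card (stabilizer (stabilizer Co0 Spor.leechV) Spor.leechU') = Nat.card pairStab :=
    Nat.card_congr
      { toFun := fun g => ⟨g.1.1, g.1.2, g.2⟩
        invFun := fun g => ⟨⟨g.1, g.2.1⟩, g.2.2⟩
        left_inv := fun g => rfl
        right_inv := fun g => rfl }
  have h := (stabilizer (stabilizer Co0 Spor.leechV) Spor.leechU').card_mul_index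
  have hi : (stabilizer (stabilizer Co0 Spor.leechV) Spor.leechU').index = 11178 :=
    (index_stabilizer _ _).trans horb
  have h' : Nat.card pairStab * 11178 = 44352000 * 11178 := by
    rw [← he, ← hi, h, Leech.card_stabilizer_48 hn, hi]
  exact Nat.eq_of_mul_eq_mul_right (by norm_num) h'

/-- The stabiliser is the group of even automorphisms. -/
theorem nonempty_equiv_evenAut : Nonempty (pairStab ≃* evenAut (B := restBlocks)) := by
  have hHS := isHS_evenAut restBlocks_steiner card_rest
  have hA := card_aut restBlocks_steiner card_rest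
  haveI : Finite (pointBlockGraph restBlocks ≃g pointBlockGraph restBlocks) :=
    Nat.finite_of_card_ne_zero (by rw [hA]; norm_num)
  haveI := hHS.1
  have hr : Nat.card toAut.range = 44352000 := by
    rw [← Nat.card_congr (MonoidHom.ofInjective toAut_injective).toEquiv, card_pairStab]
  have hidx : ∀ K : Subgroup (pointBlockGraph restBlocks ≃g pointBlockGraph restBlocks),
      Nat.card K = 44352000 → K.index = 2 := fun K h => by
    have := K.card_mul_index
    rw [h, hA] at this
    omega
  have := eq_of_index_two (hidx _ hHS.2) (hidx _ hr) (by rw [hHS.2]; norm_num)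
  exact ⟨(MonoidHom.ofInjective toAut_injective).trans (MulEquiv.subgroupCongr this)⟩

theorem isHS_pairStab : IsHS pairStab := by
  obtain ⟨e⟩ := nonempty_equiv_evenAut
  have hHS := isHS_evenAut restBlocks_steiner card_rest
  haveI := hHS.1
  exact ⟨e.isSimpleGroup, card_pairStab⟩

/-- The Higman–Sims group of the list is the group of even automorphisms. -/
theorem nonempty_equiv_spor : Nonempty (Spor.HS ≃* evenAut (B := restBlocks)) := by
  obtain ⟨e⟩ := nonempty_equiv_evenAut
  refine ⟨MulEquiv.trans ?_ e⟩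
  exact
    { toFun := fun g => ⟨⟨g.1, g.2.1.1⟩, g.2.1.2, g.2.2⟩
      invFun := fun g => ⟨g.1.1, ⟨g.1.2, g.2.1⟩, g.2.2⟩
      left_inv := fun g => rfl
      right_inv := fun g => rfl
      map_mul' := fun g h => rfl }

/-- Any such pair of vectors is equivalent to the standard one. -/
theorem exists_to_pair {v w : leechLattice} (hv : sqNorm (v : GolayPt → ℤ) = 48)
    (hw : sqNorm (w : GolayPt → ℤ) = 48) (hvw : dotInt (v : GolayPt → ℤ) (w : GolayPt → ℤ) = -32) :
    ∃ g : Co0, g • v = Spor.leechV ∧ g • (-(v + w)) = Spor.leechU' := by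
  set x : leechLattice := -(v + w) with hx
  have hxn : sqNorm (x : GolayPt → ℤ) = 32 := by
    have : ∀ p, ((x : GolayPt → ℤ) p) ^ 2 = ((v : GolayPt → ℤ) p) ^ 2 + ((w : GolayPt → ℤ) p) ^ 2 +
        2 * ((v : GolayPt → ℤ) p * (w : GolayPt → ℤ) p) := fun p => by
      simp [hx]; ring
    simp only [sqNorm, this, Finset.sum_add_distrib, ← Finset.mul_sum]
    simp only [sqNorm, dotInt] at hv hw hvw
    rw [hv, hw, hvw]; norm_num
  have hxd : dotInt (v : GolayPt → ℤ) (x : GolayPt → ℤ) = -16 := by
    have : ∀ p, (v : GolayPt → ℤ) p * (x : GolayPt → ℤ) p =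
        -((v : GolayPt → ℤ) p ^ 2) - (v : GolayPt → ℤ) p * (w : GolayPt → ℤ) p := fun p => by
      simp [hx]; ring
    simp only [dotInt, this, Finset.sum_sub_distrib, Finset.sum_neg_distrib]
    simp only [sqNorm, dotInt] at hv hvw
    rw [hv, hvw]; norm_num
  have hV : sqNorm (Spor.leechV : GolayPt → ℤ) = 48 := by show sqNorm Spor.vecV = 48; decide +kernel
  obtain ⟨g₀, hg₀⟩ := Leech.middle_transitive hv hV
  have hd₀ := Leech.dot_smul' g₀ v x
  rw [hg₀, hxd] at hd₀
  obtain ⟨g₁, hg₁, hg₁'⟩ := Leech.exists_fix_middle_sixteen (x' := Spor.leechU') hV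
    ((Leech.sqNorm_smul g₀ x).trans hxn) (by show sqNorm Spor.vecU' = 32; decide +kernel) hd₀
    (by show dotInt Spor.vecV Spor.vecU' = -16; decide +kernel)
  set g := g₁ * g₀ with hg
  have hgv : g • v = Spor.leechV := by rw [hg, mul_smul, hg₀, hg₁]
  have hgx : g • x = Spor.leechU' := by rw [hg, mul_smul, hg₁']
  exact ⟨g, hgv, hgx⟩

/-- Any such pair of vectors has such a stabiliser. -/
theorem isHS_stab {v w : leechLattice} (hv : sqNorm (v : GolayPt → ℤ) = 48)
    (hw : sqNorm (w : GolayPt → ℤ) = 48) (hvw : dotInt (v : GolayPt → ℤ) (w : GolayPt → ℤ) = -32) :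
    IsHS ↥(stabilizer Co0 v ⊓ stabilizer Co0 w) := by
  obtain ⟨g, hgv, hgx⟩ := exists_to_pair hv hw hvw
  have hiff : ∀ k : Co0, k ∈ stabilizer Co0 v ⊓ stabilizer Co0 w ↔ g * k * g⁻¹ ∈ pairStab := fun k => by
    simp only [pairStab, Subgroup.mem_inf, mem_stabilizer_iff, ← hgv, ← hgx, mul_smul, inv_smul_smul,
      smul_left_cancel_iff, Leech.smul_neg', Leech.smul_add', neg_inj]
    exact and_congr_right fun h => by rw [h, add_right_inj, smul_left_cancel_iff]
  let E : ↥(stabilizer Co0 v ⊓ stabilizer Co0 w) ≃* pairStab :=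
    { toFun := fun k => ⟨g * k * g⁻¹, (hiff k).mp k.2⟩
      invFun := fun k => ⟨g⁻¹ * k * g, (hiff _).mpr (by simp [mul_assoc])⟩
      left_inv := fun k => Subtype.ext (by simp [mul_assoc])
      right_inv := fun k => Subtype.ext (by simp [mul_assoc])
      map_mul' := fun a b => Subtype.ext (by simp [mul_assoc]) }
  have h := isHS_pairStab
  haveI := h.1
  exact ⟨E.isSimpleGroup, (Nat.card_congr E.toEquiv).trans h.2⟩

end Cfsg.Agent.HSGraph.Lat
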