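import Cfsg.Agent.Steiner.Graph
import Cfsg.Agent.Steiner.Transport22

/-!
# Automorphisms of the graph on 100 vertices of an S(3,6,22)
-/

set_option autoImplicit false
set_option linter.unusedSectionVars false

open Finset Cfsg

namespace Cfsg.Agent.HSGraph

open CfsgLib.Steiner

variable {α : Type*} [Fintype α] [DecidableEq α] {B : Set (Finset α)}

/-- A point as a vertex. -/
abbrev pt (B : Set (Finset α)) (a : α) : Option (α ⊕ B) := some (Sum.inl a)

/-- A block as a vertex. -/
abbrev bl {B : Set (Finset α)} (b : B) : Option (α ⊕ B) := some (Sum.inr b)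

lemma vertex_cases (x : Option (α ⊕ B)) : x = none ∨ (∃ a, x = pt B a) ∨ ∃ b, x = bl b := by
  rcases x with _ | (a | b)
  · exact Or.inl rfl
  · exact Or.inr (Or.inl ⟨a, rfl⟩)
  · exact Or.inr (Or.inr ⟨b, rfl⟩)

lemma adj_none (x : Option (α ⊕ B)) : (pointBlockGraph B).Adj none x ↔ ∃ a, x = pt B a := by
  rcases x with _ | (a | b) <;> simp [pointBlockGraph, pointBlockRel, pt]

lemma not_adj_pt (a a' : α) : ¬ (pointBlockGraph B).Adj (pt B a) (pt B a') := by
  simp [pointBlockGraph, pointBlockRel, pt]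

lemma adj_pt_bl (a : α) (b : B) :
    (pointBlockGraph B).Adj (pt B a) (bl b) ↔ a ∈ (b : Finset α) := by
  simp [pointBlockGraph, pointBlockRel, pt, bl]

lemma adj_bl_bl (b c : B) :
    (pointBlockGraph B).Adj (bl b) (bl c) ↔ b ≠ c ∧ Disjoint (b : Finset α) (c : Finset α) := by
  simp [pointBlockGraph, pointBlockRel, bl, disjoint_comm]

lemma adj_pt_none (a : α) : (pointBlockGraph B).Adj (pt B a) none :=
  ((adj_none _).mpr ⟨a, rfl⟩).symm

lemma not_adj_bl_none (b : B) : ¬ (pointBlockGraph B).Adj (bl b) none := fun h => by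
  obtain ⟨a, ha⟩ := (adj_none _).mp h.symm
  simp [bl, pt] at ha

variable (hB : IsSteinerSystem 3 6 B) (hα : Fintype.card α = 22)
include hB hα

open Classical in
lemma card_filter_vertices (R : Option (α ⊕ B) → Prop) :
    (univ.filter R).card = (if R none then 1 else 0) + ((univ : Finset α).filter fun a => R (pt B a)).card
      + ((univ : Finset B).filter fun b => R (bl b)).card := by
  rw [Finset.card_filter, Fintype.sum_option, Fintype.sum_sum_type, Finset.card_filter,
    Finset.card_filter, add_assoc]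

open Classical in
/-- The graph is regular of valency 22. -/
lemma degree_eq (v : Option (α ⊕ B)) :
    (univ.filter fun x => (pointBlockGraph B).Adj v x).card = 22 := by
  rw [card_filter_vertices hB hα]
  rcases vertex_cases v with rfl | ⟨a, rfl⟩ | ⟨b, rfl⟩
  · rw [if_neg (SimpleGraph.irrefl _), Finset.filter_true_of_mem (fun a _ => (adj_none _).mpr ⟨a, rfl⟩),
      Finset.filter_false_of_mem (fun b _ h => not_adj_bl_none b h.symm), Finset.card_univ, hα]
    simp
  · rw [if_pos (adj_pt_none a), Finset.filter_false_of_mem (fun a' _ => not_adj_pt a a'),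
      Finset.filter_congr (fun b _ => adj_pt_bl a b), card_sub (B := B) (fun c => a ∈ c),
      count_point hB hα a]
    simp
  · rw [if_neg (not_adj_bl_none b),
      Finset.filter_congr (fun a _ => show (pointBlockGraph B).Adj (bl b) (pt B a) ↔ a ∈ (b : Finset α)
        from (SimpleGraph.adj_comm _ _ _).trans (adj_pt_bl a b)),
      Finset.filter_congr (fun c _ => show (pointBlockGraph B).Adj (bl b) (bl c) ↔
          Disjoint (b : Finset α) (c : Finset α) from (adj_bl_bl b c).trans
        ⟨fun h => h.2, fun h => ⟨fun e => by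
          subst e
          have := hB.1 _ b.2
          rw [(Finset.disjoint_self_iff_empty _).mp h, Finset.card_empty] at this
          omega, h⟩⟩),
      card_sub (B := B) (fun c => Disjoint (b : Finset α) c), disjoint_count hB hα b.2,
      Finset.filter_univ_mem, hB.1 _ b.2]

/-- There are no triangles. -/
lemma no_triangle {x y z : Option (α ⊕ B)} (h1 : (pointBlockGraph B).Adj x y)
    (h2 : (pointBlockGraph B).Adj y z) (h3 : (pointBlockGraph B).Adj x z) : False := by
  have hnone : ∀ {u v : Option (α ⊕ B)}, (pointBlockGraph B).Adj none u →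
      (pointBlockGraph B).Adj none v → ¬ (pointBlockGraph B).Adj u v := by
    intro u v hu hv
    obtain ⟨a, rfl⟩ := (adj_none u).mp hu
    obtain ⟨a', rfl⟩ := (adj_none v).mp hv
    exact not_adj_pt a a'
  have hpt : ∀ {a : α} {u v : Option (α ⊕ B)}, (pointBlockGraph B).Adj (pt B a) u →
      (pointBlockGraph B).Adj (pt B a) v → ¬ (pointBlockGraph B).Adj u v := by
    intro a u v hu hv huv
    rcases vertex_cases u with rfl | ⟨a', rfl⟩ | ⟨b, rfl⟩
    · obtain ⟨a'', rfl⟩ := (adj_none v).mp huv
      exact not_adj_pt a a'' hv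
    · exact not_adj_pt a a' hu
    · rcases vertex_cases v with rfl | ⟨a', rfl⟩ | ⟨c, rfl⟩
      · exact not_adj_bl_none b huv
      · exact not_adj_pt a a' hv
      · exact Finset.disjoint_left.mp ((adj_bl_bl b c).mp huv).2 ((adj_pt_bl a b).mp hu)
          ((adj_pt_bl a c).mp hv)
  rcases vertex_cases x with rfl | ⟨a, rfl⟩ | ⟨b, rfl⟩
  · exact hnone h1 h3 h2
  · exact hpt h1 h3 h2
  rcases vertex_cases y with rfl | ⟨a, rfl⟩ | ⟨c, rfl⟩
  · exact hnone h1.symm h2 h3
  · exact hpt h1.symm h2 h3
  rcases vertex_cases z with rfl | ⟨a, rfl⟩ | ⟨d, rfl⟩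
  · exact hnone h3.symm h2.symm h1
  · exact hpt h3.symm h2.symm h1
  have hbc := (adj_bl_bl b c).mp h1
  have hcd := (adj_bl_bl c d).mp h2
  have hbd := (adj_bl_bl b d).mp h3
  have h0 := disjoint_both hB hα b.2 c.2 fun e => hbc.1 (Subtype.ext e)
  rw [if_pos hbc.2] at h0
  exact Finset.notMem_empty (d : Finset α) (Finset.card_eq_zero.mp h0 ▸
    Finset.mem_filter.mpr ⟨mem_blocks.mpr d.2, hbd.2, hcd.2⟩)

/-! ### The system derived at a point -/

section Derived

variable (p : α)

/-- The neighbours of a point vertex. -/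
abbrev Nbr (B : Set (Finset α)) (p : α) : Type _ :=
  {x : Option (α ⊕ B) // (pointBlockGraph B).Adj (pt B p) x}

/-- The non-neighbours of a point vertex. -/
abbrev Far (B : Set (Finset α)) (p : α) : Type _ :=
  {w : Option (α ⊕ B) // w ≠ pt B p ∧ ¬ (pointBlockGraph B).Adj (pt B p) w}

open Classical in
/-- The neighbours shared with a vertex. -/
noncomputable def six (w : Option (α ⊕ B)) : Finset (Nbr B p) :=
  univ.filter fun x => (pointBlockGraph B).Adj w x.1

/-- The derived system. -/
noncomputable def derived : Set (Finset (Nbr B p)) := Set.range fun w : Far B p => six p w.1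

lemma mem_six {w : Option (α ⊕ B)} {x : Nbr B p} :
    x ∈ six p w ↔ (pointBlockGraph B).Adj w x.1 := by simp [six]

lemma nbr_cases (x : Nbr B p) : x.1 = none ∨ ∃ b : B, x.1 = bl b ∧ p ∈ (b : Finset α) := by
  rcases vertex_cases x.1 with e | ⟨a, e⟩ | ⟨b, e⟩
  · exact Or.inl e
  · exact absurd (e ▸ x.2) (not_adj_pt p a)
  · exact Or.inr ⟨b, e, (adj_pt_bl p b).mp (e ▸ x.2)⟩

open Classical in
lemma card_nbr : Fintype.card (Nbr B p) = 22 := by
  rw [Fintype.card_subtype]; exact degree_eq hB hα _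

open Classical in
lemma card_far : Fintype.card (Far B p) = 77 := by
  haveI : Fintype B := Fintype.ofFinite _
  have hV : Fintype.card (Option (α ⊕ B)) = 100 := by
    rw [Fintype.card_option, Fintype.card_sum, hα, card_all hB hα]
  rw [Fintype.card_subtype]
  have e : (univ.filter fun w : Option (α ⊕ B) => w ≠ pt B p ∧ ¬ (pointBlockGraph B).Adj (pt B p) w)
      = univ \ insert (pt B p) (univ.filter fun x => (pointBlockGraph B).Adj (pt B p) x) := by
    ext w; simp
  rw [e, Finset.card_sdiff_of_subset (Finset.subset_univ _), Finset.card_univ, hV,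
    Finset.card_insert_of_notMem (by simp),
    show (univ.filter fun x => (pointBlockGraph B).Adj (pt B p) x).card = 22 from by
      convert! degree_eq hB hα (pt B p)]

open Classical in
lemma card_six_far (w : Far B p) : (six p w.1).card = 6 := by
  have e : (six p w.1).card =
      (univ.filter fun x => (pointBlockGraph B).Adj (pt B p) x ∧ (pointBlockGraph B).Adj w.1 x).card := by
    rw [← Finset.card_image_of_injective (six p w.1) Subtype.val_injective]
    congr 1
    ext x
    simp [mem_six hB hα p, and_comm]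
  rw [e]
  refine Eq.trans (by convert! rfl) ((card_filter_vertices hB hα _).trans ?_)
  simp only [not_adj_pt, false_and, Finset.filter_false, Finset.card_empty, add_zero]
  rcases vertex_cases w.1 with e | ⟨q, e⟩ | ⟨c, e⟩ <;> rw [e]
  · exact absurd (e ▸ adj_pt_none p) w.2.2
  · have hpq : p ≠ q := fun h => w.2.1 (h ▸ e)
    rw [if_pos ⟨adj_pt_none p, adj_pt_none q⟩]
    have key := (card_sub (B := B) (fun c => p ∈ c ∧ q ∈ c)).trans (count_pair hB hα hpq)
    simp only [adj_pt_bl]
    convert! congrArg (1 + ·) key using 3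
  · have hpc : p ∉ (c : Finset α) := fun h => w.2.2 (e ▸ (adj_pt_bl p c).mpr h)
    rw [if_neg fun h => not_adj_bl_none c h.2, zero_add]
    have key := (card_sub (B := B) (fun d => p ∈ d ∧ Disjoint (c : Finset α) d)).trans
      (disjoint_through hB hα c.2 hpc)
    refine Eq.trans ?_ key
    congr 1
    ext b
    simp only [Finset.mem_filter, Finset.mem_univ, true_and, adj_pt_bl, adj_bl_bl]
    exact and_congr_right fun hpb => ⟨fun h => h.2, fun h => ⟨fun e' => hpc (e' ▸ hpb), h⟩⟩

lemma blocks_of_triple {T : Finset (Nbr B p)} (hT : T.card = 3) :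
    ∃ b₁ b₂ : B, b₁ ≠ b₂ ∧ p ∈ (b₁ : Finset α) ∧ p ∈ (b₂ : Finset α) ∧
      (∃ x ∈ T, x.1 = bl b₁) ∧ (∃ x ∈ T, x.1 = bl b₂) ∧
      (∀ (h : ∀ x ∈ T, x.1 ≠ none), ∃ b₃ : B, b₃ ≠ b₁ ∧ b₃ ≠ b₂ ∧ p ∈ (b₃ : Finset α) ∧
        ∃ x ∈ T, x.1 = bl b₃) := by
  obtain ⟨x, y, z, hxy, hxz, hyz, rfl⟩ := Finset.card_eq_three.mp hT
  have mx : x ∈ ({x, y, z} : Finset (Nbr B p)) := by simp
  have my : y ∈ ({x, y, z} : Finset (Nbr B p)) := by simp
  have mz : z ∈ ({x, y, z} : Finset (Nbr B p)) := by simp
  have ne : ∀ {u v : Nbr B p} {b c : B}, u ≠ v → u.1 = bl b → v.1 = bl c → b ≠ c := fun h hu hv e =>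
    h (Subtype.ext (by rw [hu, hv, e]))
  have single : ∀ {u v : Nbr B p}, u ≠ v → u.1 = none → v.1 ≠ none := fun h hu hv =>
    h (Subtype.ext (hu.trans hv.symm))
  rcases nbr_cases hB hα p x with ex | ⟨b₁, e₁, p₁⟩
  · obtain ⟨b₂, e₂, p₂⟩ := (nbr_cases hB hα p y).resolve_left (single hxy ex)
    obtain ⟨b₃, e₃, p₃⟩ := (nbr_cases hB hα p z).resolve_left (single hxz ex)
    exact ⟨b₂, b₃, ne hyz e₂ e₃, p₂, p₃, ⟨y, my, e₂⟩, ⟨z, mz, e₃⟩, fun h => absurd ex (h x mx)⟩
  · rcases nbr_cases hB hα p y with ey | ⟨b₂, e₂, p₂⟩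
    · obtain ⟨b₃, e₃, p₃⟩ := (nbr_cases hB hα p z).resolve_left (single hyz ey)
      exact ⟨b₁, b₃, ne hxz e₁ e₃, p₁, p₃, ⟨x, mx, e₁⟩, ⟨z, mz, e₃⟩, fun h => absurd ey (h y my)⟩
    · refine ⟨b₁, b₂, ne hxy e₁ e₂, p₁, p₂, ⟨x, mx, e₁⟩, ⟨y, my, e₂⟩, fun h => ?_⟩
      obtain ⟨b₃, e₃, p₃⟩ := (nbr_cases hB hα p z).resolve_left (h z mz)
      exact ⟨b₃, ne hxz.symm e₃ e₁, ne hyz.symm e₃ e₂, p₃, z, mz, e₃⟩

lemma eq_of_triple {T : Finset (Nbr B p)} (hT : T.card = 3) (w w' : Far B p)
    (hw : T ⊆ six p w.1) (hw' : T ⊆ six p w'.1) : w = w' := by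
  by_contra hne
  obtain ⟨b₁, b₂, h12, p₁, p₂, ⟨x₁, hx₁, e₁⟩, ⟨x₂, hx₂, e₂⟩, hthird⟩ := blocks_of_triple hB hα p hT
  have adj : ∀ {u : Option (α ⊕ B)} {x : Nbr B p} {b : B}, T ⊆ six p u → x ∈ T → x.1 = bl b →
      (pointBlockGraph B).Adj u (bl b) := fun hu hx e => e ▸ (mem_six hB hα p).mp (hu hx)
  have meet2 : ∀ {b c : B}, b ≠ c → p ∈ (b : Finset α) → p ∈ (c : Finset α) →
      ((b : Finset α) ∩ c).card = 2 := by
    intro b c hbc hb hc
    refine (inter_cases_22 hB hα b.2 c.2 fun e => hbc (Subtype.ext e)).resolve_left fun h0 => ?_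
    exact Finset.notMem_empty p (Finset.card_eq_zero.mp h0 ▸ Finset.mem_inter.mpr ⟨hb, hc⟩)
  have mixed : ∀ (q : α) (c : B) (u v : Far B p), u.1 = pt B q → v.1 = bl c →
      T ⊆ six p u.1 → T ⊆ six p v.1 → False := by
    intro q c u v hu hv hTu hTv
    obtain ⟨b₃, n31, n32, p₃, x₃, hx₃, e₃⟩ := hthird fun x hx e =>
      not_adj_bl_none c (e ▸ hv ▸ (mem_six hB hα p).mp (hTv hx))
    have hq : ∀ {b : B} {x : Nbr B p}, x ∈ T → x.1 = bl b →
        q ∈ (b : Finset α) ∧ Disjoint (c : Finset α) (b : Finset α) := fun hx e =>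
      ⟨(adj_pt_bl q _).mp (hu ▸ adj hTu hx e), ((adj_bl_bl c _).mp (hv ▸ adj hTv hx e)).2⟩
    have hpc : p ∉ (c : Finset α) := fun h => v.2.2 (hv ▸ (adj_pt_bl p c).mpr h)
    have hqc : q ∉ (c : Finset α) := fun h =>
      Finset.disjoint_left.mp (hq hx₁ e₁).2 h (hq hx₁ e₁).1
    have hsub : ({(b₁ : Finset α), (b₂ : Finset α), (b₃ : Finset α)} : Finset (Finset α)) ⊆
        (blocks B).filter fun d => (p ∈ d ∧ q ∈ d) ∧ Disjoint (c : Finset α) d := by
      intro d hd
      simp only [Finset.mem_insert, Finset.mem_singleton] at hd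
      rcases hd with rfl | rfl | rfl
      exacts [mem_filter.mpr ⟨mem_blocks.mpr b₁.2, ⟨p₁, (hq hx₁ e₁).1⟩, (hq hx₁ e₁).2⟩,
        mem_filter.mpr ⟨mem_blocks.mpr b₂.2, ⟨p₂, (hq hx₂ e₂).1⟩, (hq hx₂ e₂).2⟩,
        mem_filter.mpr ⟨mem_blocks.mpr b₃.2, ⟨p₃, (hq hx₃ e₃).1⟩, (hq hx₃ e₃).2⟩]
    have := Finset.card_le_card hsub
    rw [disjoint_through_two hB hα c.2 hpc hqc (fun e => u.2.1 (e ▸ hu)), Finset.card_eq_three.mpr
      ⟨_, _, _, fun e => h12 (Subtype.ext e), fun e => n31 (Subtype.ext e).symm,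
        fun e => n32 (Subtype.ext e).symm, rfl⟩] at this
    omega
  rcases vertex_cases w.1 with e | ⟨q, e⟩ | ⟨c, e⟩
  · exact w.2.2 (e ▸ adj_pt_none p)
  · rcases vertex_cases w'.1 with e' | ⟨q', e'⟩ | ⟨c, e'⟩
    · exact w'.2.2 (e' ▸ adj_pt_none p)
    · have hpq : p ≠ q := fun h => w.2.1 (h ▸ e)
      have hpq' : p ≠ q' := fun h => w'.2.1 (h ▸ e')
      have hqq : q ≠ q' := fun h => hne (Subtype.ext (by rw [e, e', h]))
      have := count_triple hB hα hpq hpq' hqq
      refine h12 (Subtype.ext ((Finset.card_le_one.mp this.le) _ ?_ _ ?_))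
      · exact mem_filter.mpr ⟨mem_blocks.mpr b₁.2, p₁, (adj_pt_bl q _).mp (e ▸ adj hw hx₁ e₁),
          (adj_pt_bl q' _).mp (e' ▸ adj hw' hx₁ e₁)⟩
      · exact mem_filter.mpr ⟨mem_blocks.mpr b₂.2, p₂, (adj_pt_bl q _).mp (e ▸ adj hw hx₂ e₂),
          (adj_pt_bl q' _).mp (e' ▸ adj hw' hx₂ e₂)⟩
    · exact mixed q c w w' e e' hw hw'
  · rcases vertex_cases w'.1 with e' | ⟨q', e'⟩ | ⟨c', e'⟩
    · exact w'.2.2 (e' ▸ adj_pt_none p)
    · exact mixed q' c w' w e' e hw' hw
    · obtain ⟨b₃, n31, n32, p₃, x₃, hx₃, e₃⟩ := hthird fun x hx e0 =>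
        not_adj_bl_none c (e0 ▸ e ▸ (mem_six hB hα p).mp (hw hx))
      have hcc : (c : Finset α) ≠ c' := fun h => hne (Subtype.ext (by rw [e, e', Subtype.ext h]))
      have d : ∀ {b : B} {x : Nbr B p}, x ∈ T → x.1 = bl b →
          Disjoint (c : Finset α) (b : Finset α) ∧ Disjoint (c' : Finset α) (b : Finset α) := fun hx e0 =>
        ⟨((adj_bl_bl c _).mp (e ▸ adj hw hx e0)).2, ((adj_bl_bl c' _).mp (e' ▸ adj hw' hx e0)).2⟩
      set U : Finset α := (b₁ : Finset α) ∪ b₂ ∪ b₃
      have hdis : Disjoint U ((c : Finset α) ∪ c') := by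
        rw [Finset.disjoint_left]
        intro x hx hx'
        simp only [U, Finset.mem_union] at hx hx'
        rcases hx with (h | h) | h <;> rcases hx' with h' | h'
        exacts [Finset.disjoint_left.mp (d hx₁ e₁).1 h' h, Finset.disjoint_left.mp (d hx₁ e₁).2 h' h,
          Finset.disjoint_left.mp (d hx₂ e₂).1 h' h, Finset.disjoint_left.mp (d hx₂ e₂).2 h' h,
          Finset.disjoint_left.mp (d hx₃ e₃).1 h' h, Finset.disjoint_left.mp (d hx₃ e₃).2 h' h]
      have hU := Finset.card_le_univ (U ∪ ((c : Finset α) ∪ c'))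
      rw [Finset.card_union_of_disjoint hdis, hα] at hU
      have c1 := Finset.card_union_add_card_inter (b₁ : Finset α) b₂
      have c2 := Finset.card_union_add_card_inter ((b₁ : Finset α) ∪ b₂) b₃
      have c3 := Finset.card_union_add_card_inter ((b₁ : Finset α) ∩ b₃) ((b₂ : Finset α) ∩ b₃)
      have c4 := Finset.card_union_add_card_inter (c : Finset α) c'
      rw [← Finset.union_inter_distrib_right] at c3
      have h1 : 1 ≤ (((b₁ : Finset α) ∩ b₃) ∩ ((b₂ : Finset α) ∩ b₃)).card :=
        Finset.card_pos.mpr ⟨p, by simp [p₁, p₂, p₃]⟩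
      rw [hB.1 _ b₁.2, hB.1 _ b₂.2, meet2 h12 p₁ p₂] at c1
      rw [hB.1 _ b₃.2] at c2
      rw [meet2 n31.symm p₁ p₃, meet2 n32.symm p₂ p₃] at c3
      rw [hB.1 _ c.2, hB.1 _ c'.2] at c4
      have hUe : U.card = ((b₁ : Finset α) ∪ b₂ ∪ b₃).card := rfl
      rcases inter_cases_22 hB hα c.2 c'.2 hcc with hi | hi <;> rw [hi] at c4 <;> omega

lemma six_injective : Function.Injective fun w : Far B p => six p w.1 := by
  intro w w' e
  obtain ⟨T, hT, hT3⟩ := Finset.exists_subset_card_eq (s := six p w.1) (n := 3)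
    (by rw [card_six_far hB hα p w]; norm_num)
  exact eq_of_triple hB hα p hT3 w w' hT (hT.trans (show six p w.1 = six p w'.1 from e).le)

open Classical in
lemma derived_steiner : IsSteinerSystem 3 6 (derived p (B := B)) := by
  refine ⟨fun b ⟨w, hw⟩ => hw ▸ card_six_far hB hα p w, fun s hs => ?_⟩
  have hdis : ((univ : Finset (Far B p)) : Set (Far B p)).PairwiseDisjoint
      fun w => (six p w.1).powersetCard 3 := by
    intro w _ w' _ hne
    show Disjoint ((six p w.1).powersetCard 3) ((six p w'.1).powersetCard 3)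
    rw [Finset.disjoint_left]
    intro T h1 h2
    rw [Finset.mem_powersetCard] at h1 h2
    exact hne (eq_of_triple hB hα p h1.2 w w' h1.1 h2.1)
  have hall : (univ : Finset (Far B p)).biUnion (fun w => (six p w.1).powersetCard 3) =
      (univ : Finset (Nbr B p)).powersetCard 3 := by
    refine Finset.eq_of_subset_of_card_le (fun T hT => ?_) ?_
    · obtain ⟨w, -, hT⟩ := Finset.mem_biUnion.mp hT
      exact Finset.mem_powersetCard.mpr ⟨Finset.subset_univ _, (Finset.mem_powersetCard.mp hT).2⟩
    · rw [Finset.card_biUnion hdis, Finset.card_powersetCard, Finset.card_univ, card_nbr hB hα p,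
        Finset.sum_congr rfl (fun w _ => show ((six p w.1).powersetCard 3).card = 20 by
          rw [Finset.card_powersetCard, card_six_far hB hα p w]; rfl),
        Finset.sum_const, Finset.card_univ, card_far hB hα p]
      exact le_of_eq rfl
  obtain ⟨w, -, hw⟩ := Finset.mem_biUnion.mp
    (hall ▸ Finset.mem_powersetCard.mpr ⟨Finset.subset_univ s, hs⟩)
  refine ⟨six p w.1, ⟨⟨w, rfl⟩, (Finset.mem_powersetCard.mp hw).1⟩, ?_⟩
  rintro _ ⟨⟨w', rfl⟩, hs'⟩
  rw [eq_of_triple hB hα p hs w' w hs' (Finset.mem_powersetCard.mp hw).1]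

open Classical in
lemma far_adj_iff (w w' : Far B p) :
    (pointBlockGraph B).Adj w.1 w'.1 ↔ w ≠ w' ∧ Disjoint (six p w.1) (six p w'.1) := by
  have fwd : ∀ u : Far B p, (pointBlockGraph B).Adj w.1 u.1 →
      w ≠ u ∧ Disjoint (six p w.1) (six p u.1) := fun u h => by
    refine ⟨fun e => (SimpleGraph.irrefl _) (e ▸ h), Finset.disjoint_left.mpr fun x h1 h2 => ?_⟩
    exact no_triangle hB hα h ((mem_six hB hα p).mp h2) ((mem_six hB hα p).mp h1)
  refine ⟨fwd w', fun h => ?_⟩
  set S := (univ : Finset (Far B p)).filter fun u => (pointBlockGraph B).Adj w.1 u.1 with hS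
  set D := (univ : Finset (Far B p)).filter fun u => w ≠ u ∧ Disjoint (six p w.1) (six p u.1) with hD
  have hDc : D.card = 16 := by
    rw [← disjoint_count (derived_steiner hB hα p) (card_nbr hB hα p)
      (show six p w.1 ∈ derived p (B := B) from ⟨w, rfl⟩),
      ← Finset.card_image_of_injective D (six_injective hB hα p)]
    congr 1
    ext d
    simp only [hD, Finset.mem_image, Finset.mem_filter, Finset.mem_univ, true_and, mem_blocks]
    constructor
    · rintro ⟨u, ⟨-, hu⟩, rfl⟩; exact ⟨⟨u, rfl⟩, hu⟩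
    · rintro ⟨⟨u, rfl⟩, hu⟩
      refine ⟨u, ⟨fun e => ?_, hu⟩, rfl⟩
      have h6 := card_six_far hB hα p w
      rw [← e] at hu
      simp only [disjoint_self_iff_empty] at hu
      rw [hu, Finset.card_empty] at h6
      omega
  have hSc : S.card = 16 := by
    have h1 : (univ.filter fun x => (pointBlockGraph B).Adj w.1 x).card =
        (S.image Subtype.val).card + ((six p w.1).image Subtype.val).card := by
      rw [← Finset.card_union_of_disjoint]
      · congr 1
        ext x
        simp only [Finset.mem_union, Finset.mem_image, hS, Finset.mem_filter, Finset.mem_univ,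
          true_and, mem_six hB hα p]
        refine ⟨fun hx => ?_, ?_⟩
        · by_cases hp : (pointBlockGraph B).Adj (pt B p) x
          · exact Or.inr ⟨⟨x, hp⟩, hx, rfl⟩
          · exact Or.inl ⟨⟨x, fun e => w.2.2 (e ▸ hx).symm, hp⟩, hx, rfl⟩
        · rintro (⟨u, hu, rfl⟩ | ⟨u, hu, rfl⟩) <;> exact hu
      · rw [Finset.disjoint_left]
        intro x h1 h2
        obtain ⟨u, -, rfl⟩ := Finset.mem_image.mp h1
        obtain ⟨v, -, hv⟩ := Finset.mem_image.mp h2
        exact u.2.2 (hv ▸ v.2)
    rw [degree_eq hB hα, Finset.card_image_of_injective _ Subtype.val_injective,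
      Finset.card_image_of_injective _ Subtype.val_injective, card_six_far hB hα p w] at h1
    omega
  have heq : S = D := Finset.eq_of_subset_of_card_le (fun u hu => Finset.mem_filter.mpr
    ⟨Finset.mem_univ _, fwd u (Finset.mem_filter.mp hu).2⟩) (by rw [hDc, hSc])
  have hmem : w' ∈ S := by
    rw [heq, hD]
    exact Finset.mem_filter.mpr ⟨Finset.mem_univ w', h⟩
  exact (Finset.mem_filter.mp hmem).2

/-- The graph of the derived system maps back to the graph. -/
noncomputable def back : Option (Nbr B p ⊕ derived p (B := B)) → Option (α ⊕ B)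
  | none => pt B p
  | some (Sum.inl x) => x.1
  | some (Sum.inr d) => d.2.choose.1

lemma six_back (d : derived p (B := B)) : six p d.2.choose.1 = d.1 := d.2.choose_spec

lemma back_injective : Function.Injective (back p (B := B)) := by
  rintro (_ | (x | d)) (_ | (y | e)) h <;> simp only [back] at h
  · rfl
  · exact absurd (h.symm ▸ y.2) (SimpleGraph.irrefl _)
  · exact absurd h.symm e.2.choose.2.1
  · exact absurd (h ▸ x.2) (SimpleGraph.irrefl _)
  · rw [Subtype.ext h]
  · exact absurd (h ▸ x.2) e.2.choose.2.2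
  · exact absurd h d.2.choose.2.1
  · exact absurd (h.symm ▸ y.2) d.2.choose.2.2
  · rw [Subtype.ext ((six_back hB hα p d).symm.trans ((congrArg (six p) h).trans (six_back hB hα p e)))]

open Classical in
/-- The isomorphism with the derived graph. -/
noncomputable def backIso : pointBlockGraph (derived p (B := B)) ≃g pointBlockGraph B where
  toEquiv := Equiv.ofBijective (back p) <| by
    refine (Fintype.bijective_iff_injective_and_card _).mpr ⟨back_injective hB hα p, ?_⟩
    have n1 : Fintype.card (Nbr B p) = 22 := by convert! card_nbr hB hα p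
    have n2 : Fintype.card B = 77 := by convert! card_all hB hα
    have n3 : Fintype.card (derived p (B := B)) = 77 := by
      convert! card_all (derived_steiner hB hα p) (card_nbr hB hα p)
    rw [Fintype.card_option, Fintype.card_option, Fintype.card_sum, Fintype.card_sum,
      n1, hα, n2, n3]
  map_rel_iff' := by
    intro x y
    show (pointBlockGraph B).Adj (back p x) (back p y) ↔ _
    have inner : ∀ (u : Nbr B p) (d : derived p (B := B)),
        (pointBlockGraph B).Adj u.1 d.2.choose.1 ↔ u ∈ (d : Finset (Nbr B p)) := fun u d => by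
      conv_rhs => rw [← six_back hB hα p d, mem_six hB hα p]
      exact SimpleGraph.adj_comm _ _ _
    rcases vertex_cases x with rfl | ⟨u, rfl⟩ | ⟨d, rfl⟩ <;>
      rcases vertex_cases y with rfl | ⟨v, rfl⟩ | ⟨e, rfl⟩ <;> simp only [pt, bl, back]
    · exact iff_of_false (SimpleGraph.irrefl _) (SimpleGraph.irrefl _)
    · exact iff_of_true v.2 ((adj_none _).mpr ⟨v, rfl⟩)
    · exact iff_of_false e.2.choose.2.2 (fun h => not_adj_bl_none e h.symm)
    · exact iff_of_true u.2.symm (adj_pt_none u)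
    · exact iff_of_false (fun h => no_triangle hB hα u.2 h v.2) (not_adj_pt u v)
    · exact (inner u e).trans (adj_pt_bl u e).symm
    · exact iff_of_false (fun h => d.2.choose.2.2 h.symm) (not_adj_bl_none d)
    · exact (SimpleGraph.adj_comm _ _ _).trans ((inner v d).trans
        ((adj_pt_bl v d).symm.trans (SimpleGraph.adj_comm _ _ _)))
    · refine (far_adj_iff hB hα p _ _).trans ((adj_bl_bl d e).trans ?_).symm
      rw [six_back hB hα p, six_back hB hα p]
      refine and_congr_left' (not_congr ⟨fun h => by rw [h], fun h => Subtype.ext ?_⟩)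
      rw [← six_back hB hα p d, ← six_back hB hα p e, h]

end Derived

/-- An isomorphism of systems induces one of graphs. -/
noncomputable def mapIso {β : Type*} [Fintype β] [DecidableEq β] {B' : Set (Finset β)} (e : α ≃ β)
    (he : (fun b => b.image e) '' B = B') : pointBlockGraph B ≃g pointBlockGraph B' where
  toEquiv := Equiv.optionCongr (Equiv.sumCongr e
    ((Equiv.Set.image (fun b : Finset α => b.image e) B
      (Finset.image_injective e.injective)).trans (Equiv.setCongr he)))
  map_rel_iff' := by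
    intro x y
    rcases vertex_cases x with rfl | ⟨u, rfl⟩ | ⟨d, rfl⟩ <;>
      rcases vertex_cases y with rfl | ⟨v, rfl⟩ | ⟨c, rfl⟩ <;>
      simp [pointBlockGraph, pointBlockRel, pt, bl, Finset.disjoint_image e.injective, Subtype.ext_iff,
        (Finset.image_injective e.injective).eq_iff]

/-- Some automorphism takes the extra vertex to a given point, and its neighbours onto those. -/
lemma exists_move (p : α) : ∃ f : pointBlockGraph B ≃g pointBlockGraph B, f none = pt B p := by
  classical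
  obtain ⟨e, he⟩ := iso22 hB hα (derived_steiner hB hα p) (card_nbr hB hα p)
  exact ⟨(mapIso e he).trans (backIso hB hα p), rfl⟩

/-- The automorphism group is transitive on vertices. -/
theorem exists_move_any (v : Option (α ⊕ B)) :
    ∃ f : pointBlockGraph B ≃g pointBlockGraph B, f none = v := by
  rcases vertex_cases v with rfl | ⟨p, rfl⟩ | ⟨b, rfl⟩
  · exact ⟨RelIso.refl _, rfl⟩
  · exact exists_move hB hα p
  · obtain ⟨a, ha⟩ : (b : Finset α).Nonempty := Finset.card_pos.mp (by rw [hB.1 _ b.2]; norm_num)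
    obtain ⟨f, hf⟩ := exists_move hB hα a
    have hadj : (pointBlockGraph B).Adj none (f.symm (bl b)) := by
      rw [← f.map_rel_iff, hf, RelIso.apply_symm_apply]
      exact (adj_pt_bl a b).mpr ha
    obtain ⟨x, hx⟩ := (adj_none _).mp hadj
    obtain ⟨g, hg⟩ := exists_move hB hα x
    exact ⟨g.trans f, by rw [RelIso.trans_apply, hg, ← hx, RelIso.apply_symm_apply]⟩

/-! ### The stabiliser of the extra vertex -/

/-- The graph automorphism induced by an automorphism of the system. -/
noncomputable def extend (g : ↥(setSystemAut B)) : pointBlockGraph B ≃g pointBlockGraph B :=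
  mapIso g.1 g.2

lemma extend_pt (g : ↥(setSystemAut B)) (a : α) : extend g (pt B a) = pt B (g.1 a) := rfl

lemma extend_injective : Function.Injective (extend (B := B)) := by
  intro g h e
  refine Subtype.ext (Equiv.ext fun a => ?_)
  have := congrArg (fun f : pointBlockGraph B ≃g pointBlockGraph B => f (pt B a)) e
  simpa [extend_pt hB hα, pt] using this

lemma exists_extend_eq (f : pointBlockGraph B ≃g pointBlockGraph B) (hf : f none = none) :
    ∃ g, extend g = f := by
  classical
  have hp : ∀ a, ∃ a', f (pt B a) = pt B a' := fun a =>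
    (adj_none _).mp (hf ▸ f.map_rel_iff.mpr ((adj_none _).mpr ⟨a, rfl⟩))
  choose π hπ using hp
  have hinj : Function.Injective π := fun a a' e => by
    have : f (pt B a) = f (pt B a') := by rw [hπ, hπ, e]
    simpa [pt] using f.injective this
  let g : Equiv.Perm α := Equiv.ofBijective π (Finite.injective_iff_bijective.mp hinj)
  have hb : ∀ b : B, ∃ c : B, f (bl b) = bl c ∧ (c : Finset α) = (b : Finset α).image g := by
    intro b
    rcases vertex_cases (f (bl b)) with e | ⟨a', e⟩ | ⟨c, e⟩
    · rw [← hf] at e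
      simpa [bl] using f.injective e
    · obtain ⟨a, ha⟩ := g.surjective a'
      have : f (bl b) = f (pt B a) := by rw [e, hπ, ← ha]; rfl
      simpa [bl, pt] using f.injective this
    · refine ⟨c, e, Finset.ext fun a' => ?_⟩
      obtain ⟨a, rfl⟩ := g.surjective a'
      rw [Finset.mem_image]
      simp only [g.injective.eq_iff, exists_eq_right]
      have h2 := f.map_rel_iff (a := pt B a) (b := bl b)
      rw [e, hπ a] at h2
      exact (adj_pt_bl (π a) c).symm.trans (h2.trans (adj_pt_bl a b))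
  have hg : g ∈ setSystemAut B := by
    show (fun b : Finset α => b.image g) '' B = B
    have hsub : (fun b : Finset α => b.image g) '' B ⊆ B := by
      rintro _ ⟨b, hbB, rfl⟩
      obtain ⟨c, -, hc⟩ := hb ⟨b, hbB⟩
      show b.image g ∈ B
      rw [← hc]
      exact c.2
    refine Set.eq_of_subset_of_ncard_le hsub ?_
    rw [Set.ncard_image_of_injective _ (Finset.image_injective g.injective)]
  refine ⟨⟨g, hg⟩, RelIso.ext fun x => ?_⟩
  rcases vertex_cases x with rfl | ⟨a, rfl⟩ | ⟨b, rfl⟩
  · rw [hf]; rfl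
  · rw [extend_pt hB hα, hπ]; rfl
  · obtain ⟨c, hc, hc'⟩ := hb b
    rw [hc]
    show bl _ = bl c
    exact congrArg bl (Subtype.ext hc'.symm)

/-- The number of automorphisms. -/
theorem card_aut : Nat.card (pointBlockGraph B ≃g pointBlockGraph B) = 88704000 := by
  classical
  choose m hm using exists_move_any hB hα
  let e : (Option (α ⊕ B)) × ↥(setSystemAut B) → (pointBlockGraph B ≃g pointBlockGraph B) :=
    fun vg => (extend vg.2).trans (m vg.1)
  have hbij : Function.Bijective e := by
    refine ⟨?_, fun f => ?_⟩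
    · rintro ⟨v, g⟩ ⟨v', g'⟩ h
      have h0 := congrArg (fun f : pointBlockGraph B ≃g pointBlockGraph B => f none) h
      have e0 : ∀ g : ↥(setSystemAut B), extend g none = none := fun g => rfl
      simp only [e, RelIso.trans_apply, e0, hm] at h0
      subst h0
      refine Prod.ext rfl (extend_injective hB hα (RelIso.ext fun x => (m v).injective ?_))
      exact congrArg (fun f : pointBlockGraph B ≃g pointBlockGraph B => f x) h
    · obtain ⟨g, hg⟩ := exists_extend_eq hB hα (f.trans (m (f none)).symm)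
        (by rw [RelIso.trans_apply, RelIso.symm_apply_eq, hm])
      refine ⟨(f none, g), RelIso.ext fun x => ?_⟩
      simp [e, hg]
  rw [← Nat.card_congr (Equiv.ofBijective e hbij), Nat.card_prod, (aut22 hB hα).1]
  haveI : Fintype B := Fintype.ofFinite _
  rw [Nat.card_eq_fintype_card, Fintype.card_option, Fintype.card_sum, hα, card_all hB hα]

end Cfsg.Agent.HSGraph
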