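import Cfsg.Agent.HSGraph.Leech

/-!
# Orbits of the even automorphisms
-/

set_option autoImplicit false
set_option linter.unusedSectionVars false

namespace Cfsg.Agent.HSGraph

open Finset Cfsg CfsgLib.Steiner MulAction

variable {α : Type*} [Fintype α] [DecidableEq α] {B : Set (Finset α)}
variable (hB : IsSteinerSystem 3 6 B) (hα : Fintype.card α = 22)
include hB hα

open Classical in
/-- An odd automorphism fixing the extra vertex, a point and a block. -/
lemma exists_odd_fix : ∃ (g : ↥(setSystemAut B)) (a : α) (b : B),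
    sgn (extendHom g) = -1 ∧ g.1 a = a ∧ (b : Finset α).image g.1 = b := by
  obtain ⟨π, hπ, hπ2, hp, hb⟩ := exists_swap hB hα
  obtain ⟨a, ha⟩ : ∃ a, π a = a := by
    by_contra h
    push Not at h
    rw [Finset.filter_true_of_mem (fun a _ => h a), Finset.card_univ, hα] at hp
    omega
  obtain ⟨b₀, hb₀⟩ : ((blocks B).filter fun b => b.image π = b).Nonempty :=
    Finset.card_pos.mp (by rw [hb]; norm_num)
  rw [Finset.mem_filter, mem_blocks] at hb₀
  refine ⟨⟨π, hπ⟩, a, ⟨b₀, hb₀.1⟩, ?_, ha, hb₀.2⟩
  set f := toPermHom (extendHom ⟨π, hπ⟩) with hf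
  have hff : f * f = 1 := by
    rw [hf, ← map_mul, ← map_mul, show (⟨π, hπ⟩ * ⟨π, hπ⟩ : ↥(setSystemAut B)) = 1 from Subtype.ext hπ2,
      map_one, map_one]
  have hfp : ∀ a, f (pt B a) = pt B (π a) := fun a => extend_pt hB hα _ a
  have hfb : ∀ b : B, f (bl b) = bl b ↔ (b : Finset α).image π = b := fun b => by
    obtain ⟨c, hc, hc'⟩ := extend_bl ⟨π, hπ⟩ b
    rw [show f (bl b) = bl c from hc, ← hc']
    simp [bl, Subtype.ext_iff]
  have hsupp : f.support.card = 70 := by
    rw [show f.support = univ.filter fun x => f x ≠ x from by ext x; simp [Equiv.Perm.mem_support]]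
    refine Eq.trans (by convert! rfl) ((card_filter_vertices hB hα _).trans ?_)
    have e1 : ((univ : Finset α).filter fun a => f (pt B a) ≠ pt B a).card = 14 := by
      rw [← hp]; congr 1; ext a; simp [hfp, pt]
    have e2 : ((univ : Finset B).filter fun b => ¬ (f (bl b) = bl b)).card = 56 := by
      have h1 : ((univ : Finset B).filter fun b => f (bl b) = bl b).card = 21 := by
        rw [← hb]
        simp only [hfb]
        exact card_sub (B := B) (fun b => b.image π = b)
      have h2 := Finset.card_filter_add_card_filter_not (s := (univ : Finset B)) fun b => f (bl b) = bl b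
      have h3 : Fintype.card B = 77 := by convert! card_all hB hα
      rw [Finset.card_univ, h3, h1] at h2
      omega
    rw [if_neg (fun h => h rfl)]; convert! congrArg₂ (· + ·) (congrArg (0 + ·) e1) e2
  show Equiv.Perm.sign f = -1
  rw [sign_involution f hff, hsupp]
  decide

/-- The even automorphisms are transitive on vertices. -/
lemma exists_even_move (v : Option (α ⊕ B)) : ∃ f ∈ evenAut (B := B), f none = v := by
  obtain ⟨g, -, -, hg, -, -⟩ := exists_odd_fix hB hα
  obtain ⟨f, hf⟩ := exists_move_any hB hα v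
  rcases Int.units_eq_one_or (sgn f) with h | h
  · exact ⟨f, h, hf⟩
  · refine ⟨f * extendHom g, ?_, ?_⟩
    · show sgn (f * extendHom g) = 1
      rw [map_mul, h, hg]; rfl
    · show f (extend g none) = v
      rw [extend_none, hf]

/-- Two vertices other than the extra one, both adjacent or both non-adjacent to it, are conjugate under
even automorphisms fixing it. -/
lemma exists_even_fix {v w : Option (α ⊕ B)} (hv : v ≠ none) (hw : w ≠ none)
    (h : (pointBlockGraph B).Adj none v ↔ (pointBlockGraph B).Adj none w) :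
    ∃ f ∈ evenAut (B := B), f none = none ∧ f v = w := by
  classical
  obtain ⟨g₀, a₀, b₀, hg₀, ha₀, hb₀⟩ := exists_odd_fix hB hα
  obtain ⟨-, hA3, -⟩ := aut22 hB hα
  haveI := hA3
  haveI : IsMultiplyPretransitive (setSystemAut B) α 2 :=
    MulAction.isMultiplyPretransitive_of_le (n := 3) (by norm_num)
      (by simp [ENat.card_eq_coe_fintype_card, hα])
  haveI : IsPreprimitive (setSystemAut B) α :=
    MulAction.isPreprimitive_of_is_two_pretransitive inferInstance
  have himg : ∀ (g h : ↥(setSystemAut B)) (s : Finset α), s.image (g * h).1 = (s.image h.1).image g.1 := by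
    intro g h s; rw [Finset.image_image]; exact Finset.image_congr fun a _ => rfl
  have hall : ∀ b c : B, ∃ g : ↥(setSystemAut B), (b : Finset α).image g.1 = (c : Finset α) := by
    intro b c
    obtain ⟨T, hT, hT3⟩ := Finset.exists_subset_card_eq (s := (b : Finset α)) (n := 3)
      (by rw [hB.1 _ b.2]; norm_num)
    obtain ⟨T', hT', hT'3⟩ := Finset.exists_subset_card_eq (s := (c : Finset α)) (n := 3)
      (by rw [hB.1 _ c.2]; norm_num)
    let u : Fin 3 ↪ α := (Fintype.equivFinOfCardEq (by simp [hT3] : Fintype.card T = 3)).symm.toEmbedding.trans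
      (Function.Embedding.subtype _)
    let v : Fin 3 ↪ α := (Fintype.equivFinOfCardEq (by simp [hT'3] : Fintype.card T' = 3)).symm.toEmbedding.trans
      (Function.Embedding.subtype _)
    obtain ⟨g, hg⟩ := exists_smul_eq (setSystemAut B) u v
    refine ⟨g, (hB.2 T' hT'3).unique ⟨mem_aut_iff.mp g.2 _ b.2, fun x hx => ?_⟩ ⟨c.2, hT'⟩⟩
    obtain ⟨i, hi⟩ := (Fintype.equivFinOfCardEq (by simp [hT'3] : Fintype.card T' = 3)).symm.surjective ⟨x, hx⟩
    have : g.1 (u i) = x := by
      have := congrArg (fun w : Fin 3 ↪ α => w i) hg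
      exact this.trans (congrArg Subtype.val hi)
    exact Finset.mem_image.mpr ⟨u i, hT (Subtype.prop _), this⟩
  -- from the base point or base block
  have fix : ∀ {x : Option (α ⊕ B)} (g : ↥(setSystemAut B)), extend g₀ x = x →
      ∃ f ∈ evenAut (B := B), f none = none ∧ f x = extend g x := fun {x} g hx => by
    rcases Int.units_eq_one_or (sgn (extendHom g)) with hs | hs
    · exact ⟨extendHom g, hs, rfl, rfl⟩
    · refine ⟨extendHom g * extendHom g₀, ?_, rfl, ?_⟩
      · show sgn (extendHom g * extendHom g₀) = 1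
        rw [map_mul, hs, hg₀]; rfl
      · show extend g (extend g₀ x) = extend g x
        rw [hx]
  have base : ∀ x : Option (α ⊕ B), x ≠ none → ∃ f ∈ evenAut (B := B), f none = none ∧
      f (if (pointBlockGraph B).Adj none x then pt B a₀ else bl b₀) = x := by
    intro x hx
    rcases vertex_cases x with rfl | ⟨a, rfl⟩ | ⟨b, rfl⟩
    · exact absurd rfl hx
    · rw [if_pos ((adj_none _).mpr ⟨a, rfl⟩)]
      obtain ⟨g, hg⟩ := exists_smul_eq (setSystemAut B) a₀ a
      obtain ⟨f, h1, h2, h3⟩ := fix (x := pt B a₀) g (by rw [extend_pt hB hα, ha₀])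
      exact ⟨f, h1, h2, h3.trans ((extend_pt hB hα g a₀).trans (congrArg (pt B) hg))⟩
    · rw [if_neg fun h => not_adj_bl_none b h.symm]
      obtain ⟨g, hg⟩ := hall b₀ b
      obtain ⟨c, hc, hc'⟩ := extend_bl g₀ b₀
      obtain ⟨d, hd, hd'⟩ := extend_bl g b₀
      obtain ⟨f, h1, h2, h3⟩ := fix (x := bl b₀) g (by rw [hc]; exact congrArg bl (Subtype.ext (hc'.trans hb₀)))
      exact ⟨f, h1, h2, h3.trans (hd.trans (congrArg bl (Subtype.ext (hd'.trans hg))))⟩
  obtain ⟨f, hf, hf0, hfv⟩ := base v hv
  obtain ⟨f', hf', hf0', hfw⟩ := base w hw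
  refine ⟨f' * f⁻¹, Subgroup.mul_mem _ hf' (Subgroup.inv_mem _ hf), ?_, ?_⟩
  · rw [RelIso.mul_apply, show f⁻¹ none = none from (RelIso.symm_apply_eq f).mpr hf0.symm, hf0']
  · rw [RelIso.mul_apply, show f⁻¹ v = _ from (RelIso.symm_apply_eq f).mpr hfv.symm]
    convert! hfw using 3

end Cfsg.Agent.HSGraph
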