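import Mathlib.Data.List.Range

/-!
# A fixed-point-free involution of the graph on 100 lattice vectors
-/

set_option autoImplicit false

namespace Cfsg.Agent.HSGraph.Lat

/-- The 100 vectors. -/
def vecTable : List (List Int) := [
  [2,0,0,0,0,0,0,0,0,0,0,0,2,0,2,0,2,2,2,0,0,0,2,2],
  [2,2,0,0,0,0,0,0,0,0,0,0,0,2,0,2,0,2,2,2,0,0,0,2],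
  [2,0,0,2,0,0,0,0,0,0,0,0,0,2,2,0,2,0,0,2,0,2,0,2],
  [2,2,0,2,0,0,0,0,0,0,0,0,2,0,0,2,0,0,0,0,0,2,2,2],
  [2,0,2,0,2,0,0,0,0,0,0,0,2,0,2,2,0,0,0,2,0,0,0,2],
  [2,2,2,0,2,0,0,0,0,0,0,0,0,2,0,0,2,0,0,0,0,0,2,2],
  [2,0,2,0,0,2,0,0,0,0,0,0,0,0,0,2,2,0,2,0,0,2,0,2],
  [2,2,2,2,0,2,0,0,0,0,0,0,0,0,2,0,0,2,0,0,0,0,0,2],
  [2,0,0,0,2,2,0,0,0,0,0,0,0,0,0,0,0,2,0,2,0,2,2,2],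
  [2,0,0,2,2,2,0,0,0,0,0,0,2,2,0,0,0,0,2,0,0,0,0,2],
  [2,0,2,2,0,0,2,0,0,0,0,0,2,0,0,0,2,0,0,0,2,0,0,2],
  [2,0,0,0,2,0,2,0,0,0,0,0,0,2,0,2,0,0,0,0,2,2,0,2],
  [2,2,0,0,0,2,2,0,0,0,0,0,0,0,0,0,0,0,2,0,2,0,2,2],
  [2,0,0,0,0,0,0,2,0,0,0,0,0,0,0,2,2,0,0,2,2,0,2,2],
  [2,2,0,0,0,0,0,2,0,0,0,0,2,2,2,0,0,0,0,0,2,0,0,2],
  [2,0,2,0,2,0,0,2,0,0,0,0,0,0,0,0,0,2,2,0,2,0,0,2],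
  [2,2,2,0,0,0,2,2,0,0,0,0,0,0,0,0,0,0,0,2,0,2,0,2],
  [2,0,0,2,2,0,2,2,0,0,0,0,0,0,2,0,0,0,0,0,0,0,2,2],
  [2,0,0,0,0,2,2,2,0,0,0,0,0,2,0,0,2,2,0,0,0,0,0,2],
  [2,2,0,0,0,0,0,0,2,0,0,0,0,0,0,0,2,2,0,0,2,2,0,2],
  [2,0,0,2,0,0,0,0,2,0,0,0,0,0,2,2,0,0,2,0,2,0,0,2],
  [2,0,2,0,0,2,0,0,2,0,0,0,0,2,0,0,0,0,0,2,2,0,0,2],
  [2,0,2,0,0,0,2,0,2,0,0,0,0,0,0,2,0,2,0,0,0,0,2,2],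
  [2,0,0,0,2,0,2,0,2,0,0,0,0,0,0,0,2,0,2,2,0,0,0,2],
  [2,0,0,0,0,2,2,0,2,0,0,0,2,0,2,0,0,0,0,0,0,2,0,2],
  [2,0,0,0,0,0,0,2,2,0,0,0,0,2,0,0,0,0,2,0,0,2,2,2],
  [2,0,0,2,0,0,0,2,2,0,0,0,2,0,0,0,0,2,0,2,0,0,0,2],
  [2,2,0,0,2,2,0,2,2,0,0,0,0,0,0,2,0,0,0,0,0,0,0,2],
  [2,0,0,0,0,0,0,0,0,2,0,0,2,0,0,0,0,0,2,2,2,2,0,2],
  [2,0,0,2,0,0,0,0,0,2,0,0,0,2,0,0,0,2,0,0,2,0,2,2],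
  [2,0,0,0,2,2,0,0,0,2,0,0,0,0,2,0,2,0,0,0,2,0,0,2],
  [2,0,2,0,0,0,2,0,0,2,0,0,0,2,2,0,0,0,2,0,0,0,0,2],
  [2,2,0,0,2,0,2,0,0,2,0,0,2,0,0,0,0,2,0,0,0,0,0,2],
  [2,0,0,2,0,2,2,0,0,2,0,0,0,0,0,2,0,0,0,2,0,0,0,2],
  [2,0,0,0,0,0,0,2,0,2,0,0,0,0,2,2,0,2,0,0,0,2,0,2],
  [2,2,0,2,0,0,0,2,0,2,0,0,0,0,0,0,2,0,2,0,0,0,0,2],
  [2,0,2,0,0,2,0,2,0,2,0,0,2,0,0,0,0,0,0,0,0,0,2,2],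
  [2,0,0,0,0,0,0,0,2,2,0,0,2,2,0,2,2,0,0,0,0,0,0,2],
  [2,2,0,0,0,0,0,0,2,2,0,0,0,0,2,0,0,0,0,2,0,0,2,2],
  [2,0,2,2,2,0,0,0,2,2,0,0,0,0,0,0,0,0,0,0,0,2,0,2],
  [2,0,2,0,0,0,0,0,0,0,2,0,2,2,0,0,0,2,0,0,0,2,0,2],
  [2,0,2,2,0,0,0,0,0,0,2,0,0,0,0,0,0,0,2,2,0,0,2,2],
  [2,2,0,0,2,0,0,0,0,0,2,0,0,0,2,0,0,0,2,0,0,2,0,2],
  [2,0,0,2,2,0,0,0,0,0,2,0,0,0,0,2,2,2,0,0,0,0,0,2],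
  [2,0,0,0,0,2,0,0,0,0,2,0,0,2,2,2,0,0,0,0,0,0,2,2],
  [2,2,0,0,0,2,0,0,0,0,2,0,2,0,0,0,2,0,0,2,0,0,0,2],
  [2,0,0,0,0,0,2,0,0,0,2,0,0,0,2,0,0,2,0,2,2,0,0,2],
  [2,0,0,2,0,2,0,2,0,0,2,0,0,0,0,0,0,0,0,0,2,2,0,2],
  [2,0,0,0,0,0,2,2,0,0,2,0,2,0,0,2,0,0,2,0,0,0,0,2],
  [2,0,0,0,2,0,0,0,2,0,2,0,2,0,0,0,0,0,0,0,2,0,2,2],
  [2,2,0,2,0,0,2,0,2,0,2,0,0,2,0,0,0,0,0,0,0,0,0,2],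
  [2,0,2,0,0,0,0,2,2,0,2,0,0,0,2,0,2,0,0,0,0,0,0,2],
  [2,2,2,0,0,0,0,0,0,2,2,0,0,0,0,2,0,0,0,0,2,0,0,2],
  [2,0,0,0,0,0,2,0,0,2,2,0,0,0,0,0,2,0,0,0,0,2,2,2],
  [2,0,0,0,2,0,0,2,0,2,2,0,0,2,0,0,0,0,0,2,0,0,0,2],
  [2,0,0,0,0,2,0,0,2,2,2,0,0,0,0,0,0,2,2,0,0,0,0,2],
  [2,0,2,0,0,0,0,0,0,0,0,2,0,0,2,0,0,0,0,0,2,2,2,2],
  [2,2,0,2,2,0,0,0,0,0,0,2,0,0,0,0,0,0,0,2,2,0,0,2],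
  [2,0,0,0,0,2,0,0,0,0,0,2,2,0,0,2,0,2,0,0,2,0,0,2],
  [2,0,0,0,0,0,2,0,0,0,0,2,2,2,0,0,0,0,0,2,0,0,2,2],
  [2,2,0,0,0,0,2,0,0,0,0,2,0,0,2,2,2,0,0,0,0,0,0,2],
  [2,0,0,2,0,0,2,0,0,0,0,2,0,0,0,0,0,2,2,0,0,2,0,2],
  [2,0,2,2,0,0,0,2,0,0,0,2,0,2,0,2,0,0,0,0,0,0,0,2],
  [2,0,0,0,2,0,0,2,0,0,0,2,2,0,0,0,2,0,0,0,0,2,0,2],
  [2,0,0,0,0,2,0,2,0,0,0,2,0,0,2,0,0,0,2,2,0,0,0,2],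
  [2,2,2,0,0,0,0,0,2,0,0,2,2,0,0,0,0,0,2,0,0,0,0,2],
  [2,0,0,0,2,0,0,0,2,0,0,2,0,2,2,0,0,2,0,0,0,0,0,2],
  [2,0,0,2,0,2,0,0,2,0,0,2,0,0,0,0,2,0,0,0,0,0,2,2],
  [2,0,2,0,0,0,0,0,0,2,0,2,0,0,0,0,2,2,0,2,0,0,0,2],
  [2,0,0,0,2,0,0,0,0,2,0,2,0,0,0,2,0,0,2,0,0,0,2,2],
  [2,2,0,0,0,2,0,0,0,2,0,2,0,2,0,0,0,0,0,0,0,2,0,2],
  [2,0,0,0,0,0,2,2,2,2,0,2,0,0,0,0,0,0,0,0,2,0,0,2],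
  [2,0,0,0,0,0,0,0,0,0,2,2,0,2,0,0,2,0,2,0,2,0,0,2],
  [2,0,2,0,2,2,2,0,0,0,2,2,0,0,0,0,0,0,0,0,0,0,0,2],
  [2,2,0,0,0,0,0,2,0,0,2,2,0,0,0,0,0,2,0,0,0,0,2,2],
  [2,0,0,0,0,0,0,0,2,0,2,2,0,0,0,2,0,0,0,2,0,2,0,2],
  [2,0,0,2,0,0,0,0,0,2,2,2,2,0,2,0,0,0,0,0,0,0,0,2],
  [4,0,0,0,0,0,0,0,0,0,0,0,0,0,0,0,0,0,0,0,0,0,0,4],
  [1,-3,1,1,1,1,1,1,1,1,1,1,1,1,1,1,1,1,1,1,1,1,1,1],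
  [1,1,-3,1,1,1,1,1,1,1,1,1,1,1,1,1,1,1,1,1,1,1,1,1],
  [1,1,1,-3,1,1,1,1,1,1,1,1,1,1,1,1,1,1,1,1,1,1,1,1],
  [1,1,1,1,-3,1,1,1,1,1,1,1,1,1,1,1,1,1,1,1,1,1,1,1],
  [1,1,1,1,1,-3,1,1,1,1,1,1,1,1,1,1,1,1,1,1,1,1,1,1],
  [1,1,1,1,1,1,-3,1,1,1,1,1,1,1,1,1,1,1,1,1,1,1,1,1],
  [1,1,1,1,1,1,1,-3,1,1,1,1,1,1,1,1,1,1,1,1,1,1,1,1],
  [1,1,1,1,1,1,1,1,-3,1,1,1,1,1,1,1,1,1,1,1,1,1,1,1],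
  [1,1,1,1,1,1,1,1,1,-3,1,1,1,1,1,1,1,1,1,1,1,1,1,1],
  [1,1,1,1,1,1,1,1,1,1,-3,1,1,1,1,1,1,1,1,1,1,1,1,1],
  [1,1,1,1,1,1,1,1,1,1,1,-3,1,1,1,1,1,1,1,1,1,1,1,1],
  [1,1,1,1,1,1,1,1,1,1,1,1,-3,1,1,1,1,1,1,1,1,1,1,1],
  [1,1,1,1,1,1,1,1,1,1,1,1,1,-3,1,1,1,1,1,1,1,1,1,1],
  [1,1,1,1,1,1,1,1,1,1,1,1,1,1,-3,1,1,1,1,1,1,1,1,1],
  [1,1,1,1,1,1,1,1,1,1,1,1,1,1,1,-3,1,1,1,1,1,1,1,1],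
  [1,1,1,1,1,1,1,1,1,1,1,1,1,1,1,1,-3,1,1,1,1,1,1,1],
  [1,1,1,1,1,1,1,1,1,1,1,1,1,1,1,1,1,-3,1,1,1,1,1,1],
  [1,1,1,1,1,1,1,1,1,1,1,1,1,1,1,1,1,1,-3,1,1,1,1,1],
  [1,1,1,1,1,1,1,1,1,1,1,1,1,1,1,1,1,1,1,-3,1,1,1,1],
  [1,1,1,1,1,1,1,1,1,1,1,1,1,1,1,1,1,1,1,1,-3,1,1,1],
  [1,1,1,1,1,1,1,1,1,1,1,1,1,1,1,1,1,1,1,1,1,-3,1,1],
  [1,1,1,1,1,1,1,1,1,1,1,1,1,1,1,1,1,1,1,1,1,1,-3,1]]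

/-- The involution on them. -/
def fpfTable : List Nat := [14,13,85,86,5,4,11,17,62,56,42,6,20,1,0,77,43,7,34,48,12,69,27,52,96,58,74,22,72,64,31,30,51,89,18,46,66,80,98,73,63,57,10,16,87,82,35,61,19,65,90,32,23,99,68,71,9,41,25,83,88,47,8,40,29,49,36,93,54,21,78,55,28,39,26,91,92,15,70,81,37,79,45,59,94,2,3,44,60,33,50,75,76,67,84,97,24,95,38,53]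

end Cfsg.Agent.HSGraph.Lat
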