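import Cfsg.Agent.HSGraph.Leech
import Cfsg.Agent.HSGraph.FpfData

/-!
# A fixed-point-free involution of the Higman–Sims group
-/

set_option autoImplicit false

namespace Cfsg.Agent.HSGraph.Lat

open Cfsg CfsgLib CfsgLib.Golay MulAction

/-- The i-th vector. -/
def tabVec (i : Fin 100) : GolayPt → ℤ := fun p => (vecTable.getD i.val []).getD (idx p) 0

/-- The involution. -/
def tabPerm (i : Fin 100) : Fin 100 := Fin.ofNat 100 (fpfTable.getD i.val 0)

lemma tab_test : ∀ i, Leech.LeechTest (tabVec i) := by decide +kernel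

lemma tab_sel : ∀ i, sqNorm (tabVec i) = 32 ∧ dotInt Spor.vecV (tabVec i) = -24 ∧
    dotInt Spor.vecU' (tabVec i) = 0 := by decide +kernel

lemma tab_invol : ∀ i, tabPerm (tabPerm i) = i ∧ tabPerm i ≠ i := by decide +kernel

lemma tab_inj : ∀ i j, vecTable.getD i.val [] = vecTable.getD j.val [] → i = (j : Fin 100) := by decide +kernel

/-- An inner product computed on lists. -/
def dotL (a b : List ℤ) : ℤ := (List.zipWith (· * ·) a b).sum

lemma tab_preserves : ∀ i j : Fin 100, dotL (vecTable.getD (tabPerm i).val []) (vecTable.getD (tabPerm j).val []) =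
    dotL (vecTable.getD i.val []) (vecTable.getD j.val []) := by decide +kernel

lemma tab_len : ∀ i : Fin 100, (vecTable.getD i.val []).length = 24 := by decide +kernel

lemma dotInt_eq (x y : GolayPt → ℤ) :
    dotInt x y = (((List.range 24).map fun i => x (Golay.pt i) * y (Golay.pt i))).sum := by
  have hnd : ((List.range 24).map Golay.pt).Nodup := by decide +kernel
  have huniv : ((List.range 24).map Golay.pt).toFinset = Finset.univ := by decide +kernel
  rw [dotInt, ← huniv, List.sum_toFinset _ hnd, List.map_map]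
  rfl

lemma zipWith_eq (a b : List ℤ) (n : ℕ) (ha : a.length = n) (hb : b.length = n) :
    List.zipWith (· * ·) a b = (List.range n).map fun i => a.getD i 0 * b.getD i 0 := by
  apply List.ext_getElem
  · simp [ha, hb]
  · intro i h1 h2
    have hi : i < n := by simpa using h2
    simp only [List.getElem_zipWith, List.getElem_map, List.getElem_range,
      List.getD_eq_getElem _ _ (ha.symm ▸ hi), List.getD_eq_getElem _ _ (hb.symm ▸ hi)]

lemma dot_tab (i j : Fin 100) :
    dotInt (tabVec i) (tabVec j) = dotL (vecTable.getD i.val []) (vecTable.getD j.val []) := by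
  rw [dotInt_eq, dotL, zipWith_eq _ _ 24 (tab_len i) (tab_len j)]
  refine congrArg List.sum (List.map_congr_left fun k hk => ?_)
  simp only [tabVec, idx_pt k (List.mem_range.mp hk)]

/-- The i-th selected point. -/
def tabPts (i : Fin 100) : Pts := ⟨⟨tabVec i, Leech.mem_of_test (tab_test i)⟩, tab_sel i⟩

lemma tabPts_bijective : Function.Bijective tabPts := by
  haveI : Finite Pts := Nat.finite_of_card_ne_zero (by rw [card_pts_sel]; norm_num)
  refine (Nat.bijective_iff_injective_and_card _).mpr ⟨fun i j h => ?_, by rw [card_pts_sel, Nat.card_fin]⟩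
  refine tab_inj i j (List.ext_getElem (by rw [tab_len i, tab_len j]) fun k h1 h2 => ?_)
  have hk : k < 24 := tab_len i ▸ h1
  have := congrArg (fun z : Pts => ((z.1 : leechLattice) : GolayPt → ℤ) (Golay.pt k)) h
  simp only [tabPts, tabVec, idx_pt k hk] at this
  rwa [List.getD_eq_getElem _ _ h1, List.getD_eq_getElem _ _ h2] at this

/-- The involution on the selected points. -/
noncomputable def fpfPts : Equiv.Perm Pts :=
  (Equiv.ofBijective _ tabPts_bijective).permCongr
    (Function.Involutive.toPerm tabPerm fun i => (tab_invol i).1)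

lemma fpfPts_apply (i : Fin 100) : fpfPts (tabPts i) = tabPts (tabPerm i) := by
  show fpfPts (Equiv.ofBijective _ tabPts_bijective i) = _
  rw [fpfPts, Equiv.permCongr_apply, Equiv.symm_apply_apply]
  rfl

open Classical in
theorem exists_fpf_act : ∃ g : pairStab, g * g = 1 ∧ ∀ x : Pts, actPts g x = fpfPts x ∧ fpfPts x ≠ x := by
  have hinv : ∀ x : Pts, fpfPts (fpfPts x) = x ∧ fpfPts x ≠ x := fun x => by
    obtain ⟨i, rfl⟩ := tabPts_bijective.2 x
    rw [fpfPts_apply, fpfPts_apply, (tab_invol i).1]
    exact ⟨rfl, fun h => (tab_invol i).2 (tabPts_bijective.1 h)⟩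
  have hdot : ∀ x y : Pts, dotInt ((fpfPts x).1 : GolayPt → ℤ) ((fpfPts y).1 : GolayPt → ℤ) =
      dotInt (x.1 : GolayPt → ℤ) (y.1 : GolayPt → ℤ) := fun x y => by
    obtain ⟨i, rfl⟩ := tabPts_bijective.2 x
    obtain ⟨j, rfl⟩ := tabPts_bijective.2 y
    rw [fpfPts_apply, fpfPts_apply]
    show dotInt (tabVec _) (tabVec _) = dotInt (tabVec _) (tabVec _)
    rw [dot_tab, dot_tab, tab_preserves]
  let f : pointBlockGraph restBlocks ≃g pointBlockGraph restBlocks :=
    ⟨(ptsEquiv.trans fpfPts).trans ptsEquiv.symm, by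
      intro x y
      set F := (ptsEquiv.trans fpfPts).trans ptsEquiv.symm with hF
      have key : ∀ z, ptsEquiv (F z) = fpfPts (ptsEquiv z) := fun z => ptsEquiv.apply_symm_apply _
      have h := hdot (ptsEquiv x) (ptsEquiv y)
      rw [← key, ← key] at h
      change dotInt (vtxVec (F x)) (vtxVec (F y)) = dotInt (vtxVec x) (vtxVec y) at h
      rw [dot_table, dot_table] at h
      simp only [EmbeddingLike.apply_eq_iff_eq] at h
      by_cases hxy : x = y
      · subst hxy; exact iff_of_false (SimpleGraph.irrefl _) (SimpleGraph.irrefl _)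
      · rw [if_neg hxy, if_neg hxy] at h
        split_ifs at h with h1 h2
        · exact iff_of_true h1 h2
        · norm_num at h
        · norm_num at h
        · exact iff_of_false h1 ‹_›⟩
  have hf : ∀ x, toPermHom f x ≠ x := fun x h => by
    have h' := congrArg ptsEquiv h
    change ptsEquiv (ptsEquiv.symm (fpfPts (ptsEquiv x))) = ptsEquiv x at h'
    rw [Equiv.apply_symm_apply] at h'
    exact (hinv _).2 h'
  have hf2 : toPermHom f * toPermHom f = 1 := Equiv.ext fun x => by
    show ptsEquiv.symm (fpfPts (ptsEquiv (ptsEquiv.symm (fpfPts (ptsEquiv x))))) = x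
    rw [Equiv.apply_symm_apply, (hinv _).1, Equiv.symm_apply_apply]
  have hmem : f ∈ evenAut (B := restBlocks) := by
    show Equiv.Perm.sign (toPermHom f) = 1
    rw [sign_involution _ hf2]
    have : (toPermHom f).support = Finset.univ := Finset.eq_univ_iff_forall.mpr fun x =>
      Equiv.Perm.mem_support.mpr (hf x)
    rw [this, Finset.card_univ, Fintype.card_option, Fintype.card_sum, card_rest,
      show Fintype.card restBlocks = 77 by convert! CfsgLib.Steiner.card_all restBlocks_steiner card_rest]
    norm_num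
  have hrange : toAut.range = evenAut (B := restBlocks) := by
    have hHS := isHS_evenAut restBlocks_steiner card_rest
    have hA := card_aut restBlocks_steiner card_rest
    haveI : Finite (pointBlockGraph restBlocks ≃g pointBlockGraph restBlocks) :=
      Nat.finite_of_card_ne_zero (by rw [hA]; norm_num)
    haveI := hHS.1
    have hr : Nat.card toAut.range = 44352000 := by
      rw [← Nat.card_congr (MonoidHom.ofInjective toAut_injective).toEquiv, card_pairStab]
    have hidx : ∀ K : Subgroup (pointBlockGraph restBlocks ≃g pointBlockGraph restBlocks),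
        Nat.card K = 44352000 → K.index = 2 := fun K h => by
      have := K.card_mul_index
      rw [h, hA] at this
      omega
    exact eq_of_index_two (hidx _ hHS.2) (hidx _ hr) (by rw [hHS.2]; norm_num)
  obtain ⟨g, hg⟩ := hrange.symm ▸ hmem
  have hact : ∀ z : Pts, actPts g z = fpfPts z := fun z => by
    have := congrArg (fun k : pointBlockGraph restBlocks ≃g pointBlockGraph restBlocks => ptsEquiv (k (ptsEquiv.symm z))) hg
    simpa [toAut, f] using this
  refine ⟨g, toAut_injective ?_, fun x => ⟨hact x, (hinv x).2⟩⟩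
  rw [map_mul, map_one, hg]
  exact RelIso.ext fun x => Equiv.congr_fun hf2 x

theorem exists_fpf : ∃ g : pairStab, g * g = 1 ∧ ∀ x : Pts, (g : Co0) • x.1 ≠ x.1 := by
  obtain ⟨g, hg, h⟩ := exists_fpf_act
  refine ⟨g, hg, fun x e => (h x).2 ?_⟩
  rw [← (h x).1]
  exact Subtype.ext e

theorem exists_fpf_involution {v w : leechLattice} (hv : sqNorm (v : GolayPt → ℤ) = 48)
    (hw : sqNorm (w : GolayPt → ℤ) = 48) (hvw : dotInt (v : GolayPt → ℤ) (w : GolayPt → ℤ) = -32) :
    ∃ g : ↥Co0, g • v = v ∧ g • w = w ∧ orderOf g = 2 ∧ ∀ x : leechLattice,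
      sqNorm (x : GolayPt → ℤ) = 32 → dotInt (v : GolayPt → ℤ) (x : GolayPt → ℤ) = 24 →
      dotInt (w : GolayPt → ℤ) (x : GolayPt → ℤ) = -24 → g • x ≠ x := by
  obtain ⟨g, hgv, hgx⟩ := exists_to_pair hv hw hvw
  obtain ⟨k, hk2, hk⟩ := exists_fpf
  have hkV : (k : Co0) • Spor.leechV = Spor.leechV := k.2.1
  have hkU : (k : Co0) • Spor.leechU' = Spor.leechU' := k.2.2
  set h := g⁻¹ * k * g with hh
  have hv' : h • v = v := by rw [hh, mul_smul, mul_smul, hgv, hkV, ← hgv, inv_smul_smul]
  have hs : h • (-(v + w)) = -(v + w) := by rw [hh, mul_smul, mul_smul, hgx, hkU, ← hgx, inv_smul_smul]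
  have hne : ∀ x : leechLattice, sqNorm (x : GolayPt → ℤ) = 32 →
      dotInt (v : GolayPt → ℤ) (x : GolayPt → ℤ) = 24 →
      dotInt (w : GolayPt → ℤ) (x : GolayPt → ℤ) = -24 → h • x ≠ x := by
    intro x hx hvx hwx e
    have hsel : Sel ((-(g • x) : leechLattice) : GolayPt → ℤ) := by
      have e1 := Leech.dot_smul' g v x
      have e2 := Leech.dot_smul' g (-(v + w)) x
      rw [hgv, hvx] at e1
      rw [hgx] at e2
      have e3 : dotInt ((-(v + w) : leechLattice) : GolayPt → ℤ) (x : GolayPt → ℤ) = 0 := by
        simp only [dotInt] at hvx hwx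
        simp only [dotInt, AddSubgroup.coe_neg, AddSubgroup.coe_add, Pi.neg_apply, Pi.add_apply, neg_mul,
          add_mul, Finset.sum_neg_distrib, Finset.sum_add_distrib, hvx, hwx]
        norm_num
      rw [e3] at e2
      refine ⟨?_, ?_, ?_⟩
      · have := (Leech.sqNorm_smul g x).trans hx
        simpa [sqNorm] using this
      · have : dotInt Spor.vecV ((g • x : leechLattice) : GolayPt → ℤ) = 24 := e1
        simp only [dotInt] at this ⊢
        simp [this]
      · have : dotInt Spor.vecU' ((g • x : leechLattice) : GolayPt → ℤ) = 0 := e2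
        simp only [dotInt] at this ⊢
        simp [this]
    refine hk ⟨-(g • x), hsel⟩ ?_
    show (k : Co0) • -(g • x) = -(g • x)
    rw [hh, mul_smul, mul_smul, inv_smul_eq_iff] at e
    rw [Leech.smul_neg', e]
  refine ⟨h, hv', ?_, ?_, hne⟩
  · rw [Leech.smul_neg', neg_inj, Leech.smul_add', hv', add_right_inj] at hs
    exact hs
  · refine orderOf_eq_prime ?_ fun e => ?_
    · have : (k : Co0) * k = 1 := congrArg Subtype.val hk2
      rw [hh, pow_two, show g⁻¹ * (k : Co0) * g * (g⁻¹ * k * g) = g⁻¹ * ((k : Co0) * k) * g by group, this]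
      group
    · obtain ⟨i, -⟩ : ∃ i : Fin 100, True := ⟨0, trivial⟩
      refine hk (tabPts i) ?_
      have : (k : Co0) = 1 := by
        rw [hh] at e
        calc (k : Co0) = g * (g⁻¹ * k * g) * g⁻¹ := by group
          _ = 1 := by rw [e]; group
      rw [this, one_smul]

end Cfsg.Agent.HSGraph.Lat
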