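import Cfsg.Agent.HSGraph.EvenOrbits

/-!
# The rank three action of the Higman–Sims group in the lattice
-/

set_option autoImplicit false

namespace Cfsg.Agent.HSGraph.Lat

open Cfsg CfsgLib CfsgLib.Golay MulAction

attribute [local irreducible] CfsgLib.Leech.shortVecs CfsgLib.Leech.halfTable CfsgLib.Leech.quarterTable

/-- Even automorphisms come from the stabiliser. -/
lemma exists_act {f : pointBlockGraph restBlocks ≃g pointBlockGraph restBlocks}
    (hf : f ∈ evenAut (B := restBlocks)) :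
    ∃ k ∈ pairStab, ∀ z, k • (toPts z).1 = (toPts (f z)).1 := by
  have hHS := isHS_evenAut restBlocks_steiner card_rest
  have hA := card_aut restBlocks_steiner card_rest
  haveI : Finite (pointBlockGraph restBlocks ≃g pointBlockGraph restBlocks) :=
    Nat.finite_of_card_ne_zero (by rw [hA]; norm_num)
  haveI := hHS.1
  have hr : Nat.card toAut.range = 44352000 := by
    rw [← Nat.card_congr (MonoidHom.ofInjective toAut_injective).toEquiv, card_pairStab]
  have hidx : ∀ K : Subgroup (pointBlockGraph restBlocks ≃g pointBlockGraph restBlocks),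
      Nat.card K = 44352000 → K.index = 2 := fun K h => by
    have := K.card_mul_index
    rw [h, hA] at this
    omega
  have e := eq_of_index_two (hidx _ hHS.2) (hidx _ hr) (by rw [hHS.2]; norm_num)
  obtain ⟨k, rfl⟩ : f ∈ toAut.range := e ▸ hf
  refine ⟨k.1, k.2, fun z => ?_⟩
  show (k : Co0) • (toPts z).1 = (ptsEquiv (ptsEquiv.symm (actPts k (ptsEquiv z)))).1
  rw [Equiv.apply_symm_apply]
  rfl

/-- The configuration of the statements. -/
def Conf (v w x : leechLattice) : Prop :=
  sqNorm (x : GolayPt → ℤ) = 32 ∧ dotInt (v : GolayPt → ℤ) (x : GolayPt → ℤ) = 24 ∧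
    dotInt (w : GolayPt → ℤ) (x : GolayPt → ℤ) = -24

lemma dot_neg_left (x y : GolayPt → ℤ) : dotInt (-x) y = -dotInt x y := by
  simp [dotInt, Finset.sum_neg_distrib]

lemma dot_add_left (x y z : GolayPt → ℤ) : dotInt (x + y) z = dotInt x z + dotInt y z := by
  simp [dotInt, add_mul, Finset.sum_add_distrib]

variable {v w : leechLattice} (hv : sqNorm (v : GolayPt → ℤ) = 48)
  (hw : sqNorm (w : GolayPt → ℤ) = 48) (hvw : dotInt (v : GolayPt → ℤ) (w : GolayPt → ℤ) = -32)
include hv hw hvw

/-- The configuration is the vertex set of the graph, compatibly with the actions. -/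
theorem exists_model : ∃ e : Option (Rest ⊕ restBlocks) → leechLattice, Function.Injective e ∧
    Set.range e = {x | Conf v w x} ∧
    (∀ a b, dotInt (e a : GolayPt → ℤ) (e b : GolayPt → ℤ) = 8 ↔ (pointBlockGraph restBlocks).Adj a b) ∧
    (∀ a b, a ≠ b → dotInt (e a : GolayPt → ℤ) (e b : GolayPt → ℤ) ≠ 8 →
      dotInt (e a : GolayPt → ℤ) (e b : GolayPt → ℤ) = 16) ∧
    ∀ f ∈ evenAut (B := restBlocks), ∃ k : Co0, k • v = v ∧ k • w = w ∧ ∀ a, k • e a = e (f a) := by
  classical
  obtain ⟨g, hgv, hgx⟩ := exists_to_pair hv hw hvw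
  let e : Option (Rest ⊕ restBlocks) → leechLattice := fun a => g⁻¹ • (-(toPts a).1)
  have hge : ∀ a, g • e a = -(toPts a).1 := fun a => smul_inv_smul _ _
  have hdot : ∀ a b, dotInt (e a : GolayPt → ℤ) (e b : GolayPt → ℤ) =
      dotInt (vtxVec a) (vtxVec b) := fun a b => by
    rw [← Leech.dot_smul' g (e a) (e b), hge, hge]
    show dotInt (-(vtxVec a)) (-(vtxVec b)) = _
    simp [dotInt]
  have hinj : Function.Injective e := fun a b h => by
    have := congrArg (g • ·) h
    simp only [hge, neg_inj] at this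
    exact toPts_bijective.1 (Subtype.ext this)
  have htrans : ∀ x : leechLattice, Conf v w x ↔ Sel ((-(g • x) : leechLattice) : GolayPt → ℤ) := by
    intro x
    have e1 : dotInt Spor.vecV ((-(g • x) : leechLattice) : GolayPt → ℤ) =
        -dotInt (v : GolayPt → ℤ) (x : GolayPt → ℤ) := by
      rw [← Leech.dot_smul' g v x, hgv]
      show dotInt Spor.vecV (-((g • x : leechLattice) : GolayPt → ℤ)) = -dotInt Spor.vecV _
      simp [dotInt, Finset.sum_neg_distrib]
    have e2 : dotInt Spor.vecU' ((-(g • x) : leechLattice) : GolayPt → ℤ) =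
        dotInt (v : GolayPt → ℤ) (x : GolayPt → ℤ) + dotInt (w : GolayPt → ℤ) (x : GolayPt → ℤ) := by
      have h := Leech.dot_smul' g (-(v + w)) x
      rw [hgx] at h
      show dotInt Spor.vecU' (-((g • x : leechLattice) : GolayPt → ℤ)) = _
      rw [show dotInt Spor.vecU' (-((g • x : leechLattice) : GolayPt → ℤ)) =
        -dotInt Spor.vecU' ((g • x : leechLattice) : GolayPt → ℤ) from by simp [dotInt, Finset.sum_neg_distrib]]
      rw [show dotInt Spor.vecU' ((g • x : leechLattice) : GolayPt → ℤ) = _ from h, AddSubgroup.coe_neg,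
        dot_neg_left, AddSubgroup.coe_add, dot_add_left, neg_neg]
    have e3 : sqNorm ((-(g • x) : leechLattice) : GolayPt → ℤ) = sqNorm (x : GolayPt → ℤ) := by
      rw [← Leech.sqNorm_smul g x]
      show sqNorm (-((g • x : leechLattice) : GolayPt → ℤ)) = _
      simp [sqNorm]
    unfold Conf Sel
    rw [e1, e2, e3]
    constructor
    · rintro ⟨h1, h2, h3⟩; exact ⟨h1, by omega, by omega⟩
    · rintro ⟨h1, h2, h3⟩; exact ⟨h1, by omega, by omega⟩
  have hrange : Set.range e = {x | Conf v w x} := by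
    ext x
    rw [Set.mem_range, Set.mem_ofPred_eq, htrans]
    constructor
    · rintro ⟨a, rfl⟩
      rw [hge, neg_neg]
      exact (toPts a).2
    · intro hx
      obtain ⟨a, ha⟩ := toPts_bijective.2 ⟨-(g • x), hx⟩
      refine ⟨a, smul_left_cancel g ?_⟩
      rw [hge, ha, neg_neg]
  refine ⟨e, hinj, hrange, fun a b => ?_, fun a b hab h => ?_, fun f hf => ?_⟩
  · rw [hdot, dot_table]
    by_cases hab : a = b
    · subst hab; simp
    · rw [if_neg hab]
      split_ifs with h <;> simp [h]
  · rw [hdot, dot_table, if_neg hab] at h ⊢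
    split_ifs at h ⊢ with h'
    · exact absurd rfl h
    · rfl
  · obtain ⟨k, hk, hka⟩ := exists_act hf
    have h1 : (g⁻¹ * k * g) • v = v := by
      rw [mul_smul, mul_smul, hgv, show k • Spor.leechV = Spor.leechV from hk.1, ← hgv, inv_smul_smul]
    have h2 : (g⁻¹ * k * g) • (-(v + w)) = -(v + w) := by
      rw [mul_smul, mul_smul, hgx, show k • Spor.leechU' = Spor.leechU' from hk.2, ← hgx, inv_smul_smul]
    refine ⟨g⁻¹ * k * g, h1, ?_, fun a => ?_⟩
    · rw [Leech.smul_neg', Leech.smul_add', h1, neg_inj, add_right_inj] at h2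
      exact h2
    · rw [mul_smul, mul_smul, hge, Leech.smul_neg', hka]

/-- Size and transitivity. -/
theorem transitive_hundred : {x | Conf v w x}.ncard = 100 ∧
    ∀ x ∈ {x | Conf v w x}, ∀ x' ∈ {x | Conf v w x}, ∃ g : Co0, g • v = v ∧ g • w = w ∧ g • x = x' := by
  classical
  obtain ⟨e, hinj, hrange, -, -, hact⟩ := exists_model hv hw hvw
  rw [← hrange]
  refine ⟨?_, ?_⟩
  · rw [Set.ncard_range_of_injective hinj, Nat.card_eq_fintype_card, Fintype.card_option, Fintype.card_sum, card_rest,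
      show Fintype.card restBlocks = 77 by convert! CfsgLib.Steiner.card_all restBlocks_steiner card_rest]
  · rintro _ ⟨a, rfl⟩ _ ⟨b, rfl⟩
    obtain ⟨f, hf, hfa⟩ := exists_even_move restBlocks_steiner card_rest a
    obtain ⟨f', hf', hfb⟩ := exists_even_move restBlocks_steiner card_rest b
    obtain ⟨k, h1, h2, h3⟩ := hact (f' * f⁻¹) (Subgroup.mul_mem _ hf' (Subgroup.inv_mem _ hf))
    refine ⟨k, h1, h2, (h3 a).trans (congrArg e ?_)⟩
    rw [RelIso.mul_apply, show f⁻¹ a = none from (RelIso.symm_apply_eq f).mpr hfa.symm, hfb]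

/-- The subdegrees and orbits of the stabiliser of a point. -/
theorem rank_three {x : leechLattice} (hx : Conf v w x) :
    {y | Conf v w y ∧ dotInt (x : GolayPt → ℤ) (y : GolayPt → ℤ) = 8}.ncard = 22 ∧
    {y | Conf v w y ∧ y ≠ x ∧ dotInt (x : GolayPt → ℤ) (y : GolayPt → ℤ) ≠ 8}.ncard = 77 ∧
    ∀ y, Conf v w y → ∀ y', Conf v w y' → y ≠ x → y' ≠ x →
      (dotInt (x : GolayPt → ℤ) (y : GolayPt → ℤ) = 8 ↔ dotInt (x : GolayPt → ℤ) (y' : GolayPt → ℤ) = 8) →
      ∃ g : Co0, g • v = v ∧ g • w = w ∧ g • x = x ∧ g • y = y' := by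
  classical
  obtain ⟨e, hinj, hrange, hadj, -, hact⟩ := exists_model hv hw hvw
  have mem : ∀ {y}, Conf v w y → ∃ a, e a = y := fun {y} h => by
    have : y ∈ Set.range e := hrange ▸ h
    exact this
  have conf : ∀ a, Conf v w (e a) := fun a => (hrange ▸ Set.mem_range_self a : e a ∈ {x | Conf v w x})
  obtain ⟨p, rfl⟩ := mem hx
  have hdeg := degree_eq restBlocks_steiner card_rest p
  have h22 : {y | Conf v w y ∧ dotInt (e p : GolayPt → ℤ) (y : GolayPt → ℤ) = 8}.ncard = 22 := by
    rw [show {y | Conf v w y ∧ dotInt (e p : GolayPt → ℤ) (y : GolayPt → ℤ) = 8} =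
        e '' ↑(Finset.univ.filter fun a => (pointBlockGraph restBlocks).Adj p a) from ?_,
      Set.ncard_image_of_injective _ hinj, Set.ncard_coe_finset]
    · convert! hdeg
    ext y
    simp only [Set.mem_ofPred_eq, Finset.coe_filter, Finset.mem_univ, true_and, Set.mem_image]
    constructor
    · rintro ⟨hy, hd⟩
      obtain ⟨a, rfl⟩ := mem hy
      exact ⟨a, (hadj p a).mp hd, rfl⟩
    · rintro ⟨a, ha, rfl⟩
      exact ⟨conf a, (hadj p a).mpr ha⟩
  refine ⟨h22, ?_, ?_⟩
  · have hfin : {y | Conf v w y}.Finite := hrange ▸ Set.finite_range e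
    have h1 : {y | Conf v w y ∧ y ≠ e p ∧ dotInt (e p : GolayPt → ℤ) (y : GolayPt → ℤ) ≠ 8} =
        {y | Conf v w y} \ insert (e p) {y | Conf v w y ∧ dotInt (e p : GolayPt → ℤ) (y : GolayPt → ℤ) = 8} := by
      ext y
      simp only [Set.mem_ofPred_eq, Set.mem_diff, Set.mem_insert_iff]
      tauto
    have hsub : insert (e p) {y | Conf v w y ∧ dotInt (e p : GolayPt → ℤ) (y : GolayPt → ℤ) = 8} ⊆
        {y | Conf v w y} := Set.insert_subset (conf p) fun y hy => hy.1
    rw [h1, Set.ncard_sdiff hsub (hfin.subset hsub), Set.ncard_insert_of_notMem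
      (fun h => (SimpleGraph.irrefl _) ((hadj p p).mp h.2)) (hfin.subset fun y hy => hy.1), h22,
      (transitive_hundred hv hw hvw).1]
  · intro y hy y' hy' hne hne' hiff
    obtain ⟨a, rfl⟩ := mem hy
    obtain ⟨b, rfl⟩ := mem hy'
    rw [hadj, hadj] at hiff
    obtain ⟨f, hf, hfp⟩ := exists_even_move restBlocks_steiner card_rest p
    have hs : f⁻¹ p = none := (RelIso.symm_apply_eq f).mpr hfp.symm
    have hne_none : ∀ {c}, e c ≠ e p → f⁻¹ c ≠ none := fun {c} h h' =>
      h (congrArg e (f⁻¹.injective (h'.trans hs.symm)))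
    obtain ⟨t, ht, ht0, hta⟩ := exists_even_fix restBlocks_steiner card_rest (hne_none hne) (hne_none hne')
      (by
        have m : ∀ c, (pointBlockGraph restBlocks).Adj (f⁻¹ p) (f⁻¹ c) ↔ (pointBlockGraph restBlocks).Adj p c :=
          fun c => RelIso.map_rel_iff (f⁻¹ : pointBlockGraph restBlocks ≃g pointBlockGraph restBlocks)
        rw [← hs, m, m]; exact hiff)
    obtain ⟨k, h1, h2, h3⟩ := hact (f * t * f⁻¹)
      (Subgroup.mul_mem _ (Subgroup.mul_mem _ hf ht) (Subgroup.inv_mem _ hf))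
    refine ⟨k, h1, h2, (h3 p).trans (congrArg e ?_), (h3 a).trans (congrArg e ?_)⟩
    · simp only [RelIso.mul_apply, hs, ht0, hfp]
    · simp only [RelIso.mul_apply, hta]
      exact RelIso.apply_symm_apply f b

end Cfsg.Agent.HSGraph.Lat
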