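import Cfsg.Agent.HSGraph.Aut

/-!
# The strongly regular graph with parameters (100, 22, 0, 6) comes from an S(3,6,22)
-/

set_option autoImplicit false
set_option linter.unusedSectionVars false

namespace Cfsg.Agent.HSGraph.Unique

open Finset Cfsg

variable {V : Type*} [Fintype V] [DecidableEq V] {G : SimpleGraph V} [DecidableRel G.Adj]
  (hG : G.IsSRGWith 100 22 0 6)

/-- Adjacency as a number. -/
def ad (G : SimpleGraph V) [DecidableRel G.Adj] (x y : V) : ℤ := if G.Adj x y then 1 else 0

/-- A multiple of the projection onto an eigenspace of dimension 22. -/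
def pr (G : SimpleGraph V) [DecidableRel G.Adj] (x y : V) : ℤ :=
  1 + 10 * (if x = y then 1 else 0) - 5 * ad G x y

lemma ad_comm (x y : V) : ad G x y = ad G y x := by simp [ad, G.adj_comm]

lemma pr_comm (x y : V) : pr G x y = pr G y x := by simp [pr, ad_comm x y, eq_comm]

include hG

lemma deg (v : V) : (univ.filter fun x => G.Adj v x).card = 22 := by
  rw [← hG.regular v, ← SimpleGraph.card_neighborFinset_eq_degree, SimpleGraph.neighborFinset_eq_filter]

lemma common_card (v w : V) : (univ.filter fun x => G.Adj v x ∧ G.Adj w x).card =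
    if v = w then 22 else if G.Adj v w then 0 else 6 := by
  split_ifs with h1 h2
  · subst h1; simp only [and_self]; exact deg hG v
  · rw [← hG.of_adj v w h2, Fintype.card_subtype]
    congr 1
  · rw [← hG.of_not_adj h1 h2, Fintype.card_subtype]
    congr 1

lemma sum_ad (v : V) : ∑ x, ad G v x = 22 := by
  simp only [ad, Finset.sum_boole, deg hG v]; norm_num

lemma sum_pr_mul (x y : V) : ∑ z, pr G x z * pr G z y = 50 * pr G x y := by
  have hcn : ∑ z, ad G x z * ad G y z = ((univ.filter fun z => G.Adj x z ∧ G.Adj y z).card : ℤ) := by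
    rw [← Finset.sum_boole]
    refine Finset.sum_congr rfl fun z _ => ?_
    unfold ad; split_ifs <;> simp_all
  have hexp : ∀ z, pr G x z * pr G z y = 1 + 10 * (if x = z then (1 : ℤ) else 0) + 10 * (if z = y then (1 : ℤ) else 0)
      - 5 * ad G x z - 5 * ad G y z + 100 * ((if x = z then (1 : ℤ) else 0) * (if z = y then (1 : ℤ) else 0))
      - 50 * ((if x = z then (1 : ℤ) else 0) * ad G y z) - 50 * ((if z = y then (1 : ℤ) else 0) * ad G x z)
      + 25 * (ad G x z * ad G y z) := fun z => by
    rw [pr, pr, ad_comm z y]; ring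
  simp only [hexp, Finset.sum_add_distrib, Finset.sum_sub_distrib, ← Finset.mul_sum, sum_ad hG, hcn,
    Finset.sum_ite_eq, Finset.sum_ite_eq', Finset.sum_const, Finset.card_univ, hG.card, ite_mul, one_mul,
    zero_mul, Finset.mem_univ, if_true, common_card hG]
  rw [pr, ad_comm y x]
  by_cases h1 : x = y
  · subst h1; simp [ad]; 
  · by_cases h2 : G.Adj x y <;> simp [h1, h2, ad]

section Far

variable {v w : V} (hwv : w ≠ v) (hw : ¬ G.Adj v w)
include hwv hw

/-- Any far vertex is determined by the neighbours shared with `v`. -/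
lemma meet_eq {w' : V} (hwv' : w' ≠ v) (hw' : ¬ G.Adj v w') (hne : w ≠ w') :
    (univ.filter fun a => G.Adj v a ∧ G.Adj w a ∧ G.Adj w' a).card = if G.Adj w w' then 0 else 2 := by
  set z : V → ℤ := fun x => 8 * (if x = w then 1 else 0) - ad G v x * (1 - 4 * ad G w x) with hz
  set g : V → ℤ := fun y => ∑ x, pr G y x * z x with hg
  have hgy : ∀ y, g y = 8 * pr G y w - ∑ a, ad G v a * (1 - 4 * ad G w a) * pr G y a := fun y => by
    have e : ∀ x, pr G y x * z x = (if x = w then 8 * pr G y x else 0) -
        ad G v x * (1 - 4 * ad G w x) * pr G y x := fun x => by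
      simp only [hz]; split_ifs <;> ring
    simp only [hg, e, Finset.sum_sub_distrib, Finset.sum_ite_eq', Finset.mem_univ, if_true]
  have hs2 : ∑ a, ad G v a * ad G w a = 6 := by
    have h := common_card hG v w
    rw [if_neg (Ne.symm hwv), if_neg hw] at h
    calc ∑ a, ad G v a * ad G w a = ((univ.filter fun a => G.Adj v a ∧ G.Adj w a).card : ℤ) := by
          rw [← Finset.sum_boole]
          refine Finset.sum_congr rfl fun a _ => ?_
          unfold ad; split_ifs <;> simp_all
      _ = 6 := by rw [h]; norm_num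
  have hgw : g w = 0 := by
    rw [hgy]
    have : ∀ a, ad G v a * (1 - 4 * ad G w a) * pr G w a = ad G v a + 11 * (ad G v a * ad G w a) := by
      intro a
      unfold pr ad
      by_cases h1 : G.Adj v a
      · have : w ≠ a := fun e => hw (e ▸ h1)
        by_cases h2 : G.Adj w a <;> simp [h1, h2, this]
      · simp [h1]
    rw [Finset.sum_congr rfl fun a _ => this a, Finset.sum_add_distrib, ← Finset.mul_sum, sum_ad hG, hs2]
    simp [pr, ad]
  have hga : ∀ a, G.Adj v a → g a = 0 := by
    intro a ha
    rw [hgy]
    have hnn : ∀ b, ad G v b * (1 - 4 * ad G w b) * pr G a b =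
        ad G v b - 4 * (ad G v b * ad G w b) + (if a = b then 10 * (1 - 4 * ad G w a) else 0) := by
      intro b
      by_cases h1 : G.Adj v b
      · have hab : ¬ G.Adj a b := fun h => by
          have := common_card hG v a
          rw [if_neg (fun e => (SimpleGraph.irrefl G) (e ▸ ha)), if_pos ha, Finset.card_eq_zero] at this
          exact Finset.notMem_empty b (this ▸ Finset.mem_filter.mpr ⟨Finset.mem_univ b, h1, h⟩)
        by_cases e : a = b
        · subst e; simp [pr, ad, h1]; ring
        · simp [pr, ad, h1, hab, e]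
      · have : a ≠ b := fun e => h1 (e ▸ ha)
        simp [ad, h1, this]
    rw [Finset.sum_congr rfl fun b _ => hnn b, Finset.sum_add_distrib, Finset.sum_sub_distrib,
      ← Finset.mul_sum, sum_ad hG, hs2, Finset.sum_ite_eq, if_pos (Finset.mem_univ a)]
    have : a ≠ w := fun e => hw (e ▸ ha)
    simp [pr, this, ad_comm a w]
    ring
  have hsq : ∑ y, g y * g y = 50 * ∑ x, z x * g x := by
    calc ∑ y, g y * g y = ∑ y, ∑ x, ∑ x', (pr G x y * pr G y x') * (z x * z x') := by
          refine Finset.sum_congr rfl fun y _ => ?_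
          simp only [hg, Finset.sum_mul, Finset.mul_sum]
          exact Finset.sum_congr rfl fun x _ => Finset.sum_congr rfl fun x' _ => by
            rw [pr_comm x y]; ring
      _ = ∑ x, ∑ x', (∑ y, pr G x y * pr G y x') * (z x * z x') := by
          rw [Finset.sum_comm]
          refine Finset.sum_congr rfl fun x _ => ?_
          rw [Finset.sum_comm]
          exact Finset.sum_congr rfl fun x' _ => by rw [Finset.sum_mul]
      _ = 50 * ∑ x, z x * g x := by
          simp only [sum_pr_mul hG, hg, Finset.mul_sum]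
          exact Finset.sum_congr rfl fun x _ => Finset.sum_congr rfl fun x' _ => by ring
  have hzg : ∀ x, z x * g x = 0 := fun x => by
    by_cases hx : x = w
    · rw [hx, hgw, mul_zero]
    · by_cases hx' : G.Adj v x
      · rw [hga x hx', mul_zero]
      · simp [hz, hx, ad, hx']
  rw [Finset.sum_eq_zero (fun x _ => hzg x), mul_zero] at hsq
  have h0 : g w' = 0 := mul_self_eq_zero.mp
    ((Finset.sum_eq_zero_iff_of_nonneg fun y _ => mul_self_nonneg (g y)).mp hsq w' (Finset.mem_univ _))
  have hexp : ∀ a, ad G v a * (1 - 4 * ad G w a) * pr G w' a = ad G v a - 4 * (ad G v a * ad G w a)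
      - 5 * (ad G v a * ad G w' a) + 20 * (if G.Adj v a ∧ G.Adj w a ∧ G.Adj w' a then 1 else 0) := by
    intro a
    unfold pr ad
    by_cases h1 : G.Adj v a
    · have : w' ≠ a := fun e => hw' (e ▸ h1)
      by_cases h2 : G.Adj w a <;> by_cases h3 : G.Adj w' a <;> simp [h1, h2, h3, this]
    · simp [h1]
  have hs2' : ∑ a, ad G v a * ad G w' a = 6 := by
    have h := common_card hG v w'
    rw [if_neg (Ne.symm hwv'), if_neg hw'] at h
    calc ∑ a, ad G v a * ad G w' a = ((univ.filter fun a => G.Adj v a ∧ G.Adj w' a).card : ℤ) := by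
          rw [← Finset.sum_boole]
          refine Finset.sum_congr rfl fun a _ => ?_
          unfold ad; split_ifs <;> simp_all
      _ = 6 := by rw [h]; norm_num
  rw [hgy, Finset.sum_congr rfl fun a _ => hexp a, Finset.sum_add_distrib, Finset.sum_sub_distrib,
    Finset.sum_sub_distrib, ← Finset.mul_sum, ← Finset.mul_sum, ← Finset.mul_sum, sum_ad hG, hs2, hs2',
    Finset.sum_boole] at h0
  by_cases hadj : G.Adj w w'
  · rw [if_pos hadj]
    simp only [pr, ad, if_neg (Ne.symm hne), G.adj_comm w' w, if_pos hadj] at h0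
    omega
  · rw [if_neg hadj]
    simp only [pr, ad, if_neg (Ne.symm hne), G.adj_comm w' w, if_neg hadj] at h0
    omega

end Far

open Classical in
theorem exists_iso (v : V) : ∃ B : Set (Finset {a // G.Adj v a}),
    IsSteinerSystem 3 6 B ∧ Fintype.card {a // G.Adj v a} = 22 ∧ Nonempty (pointBlockGraph B ≃g G) := by
  let six : V → Finset {a // G.Adj v a} := fun w => univ.filter fun a => G.Adj w a.1
  let Far := {w : V // w ≠ v ∧ ¬ G.Adj v w}
  have h22 : Fintype.card {a // G.Adj v a} = 22 := by rw [Fintype.card_subtype]; exact deg hG v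
  have h77 : Fintype.card Far = 77 := by
    rw [Fintype.card_subtype]
    have e : (univ.filter fun w => w ≠ v ∧ ¬ G.Adj v w) = univ \ insert v (univ.filter fun x => G.Adj v x) := by
      ext w; simp
    rw [e, Finset.card_sdiff_of_subset (Finset.subset_univ _), Finset.card_univ, hG.card,
      Finset.card_insert_of_notMem (by simp), deg hG v]
  have hsix : ∀ w : Far, (six w.1).card = 6 := fun w => by
    have h := common_card hG v w.1
    rw [if_neg (Ne.symm w.2.1), if_neg w.2.2] at h
    rw [← h, ← Finset.card_image_of_injective _ Subtype.val_injective]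
    congr 1; ext x; simp [six, and_comm]
  have hmeet : ∀ w w' : Far, w ≠ w' → (six w.1 ∩ six w'.1).card = if G.Adj w.1 w'.1 then 0 else 2 := by
    intro w w' hne
    rw [← meet_eq hG w.2.1 w.2.2 w'.2.1 w'.2.2 (fun e => hne (Subtype.ext e)),
      ← Finset.card_image_of_injective _ Subtype.val_injective]
    congr 1; ext x; simp [six, and_left_comm]
  have hinj : Function.Injective fun w : Far => six w.1 := fun w w' e => by
    by_contra hne
    have h := hmeet w w' hne
    rw [show six w.1 = six w'.1 from e, Finset.inter_self, hsix] at h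
    split_ifs at h <;> omega
  let B : Set (Finset {a // G.Adj v a}) := Set.range fun w : Far => six w.1
  have huniq : ∀ (T : Finset {a // G.Adj v a}), T.card = 3 → ∀ w w' : Far, T ⊆ six w.1 → T ⊆ six w'.1 → w = w' := by
    intro T hT w w' h1 h2
    by_contra hne
    have h3 := Finset.card_le_card (Finset.subset_inter h1 h2)
    rw [hmeet w w' hne, hT] at h3
    split_ifs at h3 <;> omega
  have hB : IsSteinerSystem 3 6 B := by
    refine ⟨fun b ⟨w, hw⟩ => hw ▸ hsix w, fun s hs => ?_⟩
    have hdis : ((univ : Finset Far) : Set Far).PairwiseDisjoint fun w => (six w.1).powersetCard 3 := by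
      intro w _ w' _ hne
      show Disjoint ((six w.1).powersetCard 3) ((six w'.1).powersetCard 3)
      rw [Finset.disjoint_left]
      intro T h1 h2
      rw [Finset.mem_powersetCard] at h1 h2
      exact hne (huniq T h1.2 w w' h1.1 h2.1)
    have hall : (univ : Finset Far).biUnion (fun w => (six w.1).powersetCard 3) =
        (univ : Finset {a // G.Adj v a}).powersetCard 3 := by
      refine Finset.eq_of_subset_of_card_le (fun T hT => ?_) ?_
      · obtain ⟨w, -, hT⟩ := Finset.mem_biUnion.mp hT
        exact Finset.mem_powersetCard.mpr ⟨Finset.subset_univ _, (Finset.mem_powersetCard.mp hT).2⟩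
      · rw [Finset.card_biUnion hdis, Finset.card_powersetCard, Finset.card_univ, h22,
          Finset.sum_congr rfl (fun w _ => show ((six w.1).powersetCard 3).card = 20 by
            rw [Finset.card_powersetCard, hsix w]; rfl),
          Finset.sum_const, Finset.card_univ, h77]
        exact le_of_eq rfl
    obtain ⟨w, -, hw⟩ := Finset.mem_biUnion.mp
      (hall ▸ Finset.mem_powersetCard.mpr ⟨Finset.subset_univ s, hs⟩)
    refine ⟨six w.1, ⟨⟨w, rfl⟩, (Finset.mem_powersetCard.mp hw).1⟩, ?_⟩
    rintro _ ⟨⟨w', rfl⟩, hs'⟩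
    rw [huniq s hs w' w hs' (Finset.mem_powersetCard.mp hw).1]
  refine ⟨B, hB, h22, ?_⟩
  let back : Option ({a // G.Adj v a} ⊕ B) → V
    | none => v
    | some (Sum.inl a) => a.1
    | some (Sum.inr d) => d.2.choose.1
  have hdspec : ∀ d : B, six d.2.choose.1 = d.1 := fun d => d.2.choose_spec
  have hbinj : Function.Injective back := by
    rintro (_ | (a | d)) (_ | (a' | d')) h <;> simp only [back] at h
    · rfl
    · exact absurd (h.symm ▸ a'.2) (SimpleGraph.irrefl _)
    · exact absurd h.symm d'.2.choose.2.1
    · exact absurd (h ▸ a.2) (SimpleGraph.irrefl _)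
    · rw [Subtype.ext h]
    · exact absurd (h ▸ a.2) d'.2.choose.2.2
    · exact absurd h d.2.choose.2.1
    · exact absurd (h.symm ▸ a'.2) d.2.choose.2.2
    · rw [Subtype.ext ((hdspec d).symm.trans ((congrArg six h).trans (hdspec d')))]
  have hcard : Fintype.card (Option ({a // G.Adj v a} ⊕ B)) = Fintype.card V := by
    rw [Fintype.card_option, Fintype.card_sum, h22, hG.card,
      show Fintype.card B = 77 from (Fintype.card_congr (Equiv.ofInjective _ hinj)).symm.trans h77]
  have htri : ∀ x y : {a // G.Adj v a}, ¬ G.Adj x.1 y.1 := fun x y h => by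
    have := common_card hG v x.1
    rw [if_neg (G.ne_of_adj x.2), if_pos x.2, Finset.card_eq_zero] at this
    exact Finset.notMem_empty y.1 (this ▸ Finset.mem_filter.mpr ⟨Finset.mem_univ _, y.2, h⟩)
  have inner : ∀ (u : {a // G.Adj v a}) (d : B), G.Adj u.1 d.2.choose.1 ↔ u ∈ (d : Finset _) := fun u d => by
    conv_rhs => rw [← hdspec d]
    simp only [six, Finset.mem_filter, Finset.mem_univ, true_and]
    exact G.adj_comm _ _
  refine ⟨⟨Equiv.ofBijective back ((Fintype.bijective_iff_injective_and_card _).mpr ⟨hbinj, hcard⟩), ?_⟩⟩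
  intro x y
  show G.Adj (back x) (back y) ↔ _
  rcases vertex_cases x with rfl | ⟨u, rfl⟩ | ⟨d, rfl⟩ <;>
    rcases vertex_cases y with rfl | ⟨u', rfl⟩ | ⟨e, rfl⟩ <;> simp only [pt, bl, back]
  · exact iff_of_false (SimpleGraph.irrefl _) (SimpleGraph.irrefl _)
  · exact iff_of_true u'.2 ((adj_none _).mpr ⟨u', rfl⟩)
  · exact iff_of_false e.2.choose.2.2 (fun h => not_adj_bl_none e h.symm)
  · exact iff_of_true u.2.symm (adj_pt_none u)
  · exact iff_of_false (htri u u') (not_adj_pt u u')
  · exact (inner u e).trans (adj_pt_bl u e).symm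
  · exact iff_of_false (fun h => d.2.choose.2.2 h.symm) (not_adj_bl_none d)
  · exact (G.adj_comm _ _).trans ((inner u' d).trans
      ((adj_pt_bl u' d).symm.trans (SimpleGraph.adj_comm _ _ _)))
  · refine Iff.trans ?_ (adj_bl_bl d e).symm
    by_cases hde : d = e
    · subst hde; simp
    · have hne : d.2.choose ≠ e.2.choose := fun h =>
        hde (Subtype.ext ((hdspec d).symm.trans ((congrArg (fun w : Far => six w.1) h).trans (hdspec e))))
      have h6 : Disjoint (d : Finset {a // G.Adj v a}) (e : Finset {a // G.Adj v a}) ↔ (six d.2.choose.1 ∩ six e.2.choose.1).card = 0 := by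
        rw [Finset.card_eq_zero, ← Finset.disjoint_iff_inter_eq_empty]
        exact iff_of_eq (congrArg₂ Disjoint (hdspec d).symm (hdspec e).symm)
      rw [h6, hmeet _ _ hne]
      by_cases h : G.Adj d.2.choose.1 e.2.choose.1 <;> simp [h, hde]

end Cfsg.Agent.HSGraph.Unique
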