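import Cfsg.Agent.HSGraph.Leech
import Cfsg.Agent.HSGraph.Unique
import Cfsg.Agent.Golay.Mathieu
import Cfsg.Prelude.Def_Spor_Mathieu

/-!
# Rank three groups of degree 100 with suborbits 1, 22, 77
-/

set_option autoImplicit false
set_option linter.unusedSectionVars false

namespace Cfsg.Agent.HSGraph.RankThree

open Finset Cfsg MulAction

/-- The trace of an idempotent rational matrix is a natural number. -/
lemma exists_nat_trace {n : Type*} [Fintype n] [DecidableEq n] (E : Matrix n n ℚ) (h : E * E = E) :
    ∃ m : ℕ, E.trace = m := by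
  have hi : IsIdempotentElem (Matrix.toLin' E) := by
    show Matrix.toLin' E * Matrix.toLin' E = Matrix.toLin' E
    rw [Module.End.mul_eq_comp, ← Matrix.toLin'_mul, h]
  refine ⟨Module.finrank ℚ (LinearMap.range (Matrix.toLin' E)), ?_⟩
  rw [← Matrix.trace_toLin'_eq]
  exact ((LinearMap.isProj_range_iff_isIdempotentElem _).mpr hi).trace

variable {Ω : Type*} [Fintype Ω] [DecidableEq Ω] (G : Subgroup (Equiv.Perm Ω))

/-- The orbital graph relation. -/
def Rel (a b x y : Ω) : Prop := ∃ g : G, g • a = x ∧ g • b = y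

variable {G} {a b c : Ω}

lemma rel_smul (g : G) {x y : Ω} (h : Rel G a b x y) : Rel G a b (g • x) (g • y) := by
  obtain ⟨k, rfl, rfl⟩ := h
  exact ⟨g * k, mul_smul _ _ _, mul_smul _ _ _⟩

variable (hΩ : Fintype.card Ω = 100) [IsPretransitive G Ω]
  (hb : (orbit (stabilizer G a) b).ncard = 22) (hc : (orbit (stabilizer G a) c).ncard = 77)
include hΩ hb hc

lemma rel_base (y : Ω) : Rel G a b a y ↔ y ∈ orbit (stabilizer G a) b :=
  ⟨fun ⟨g, h1, h2⟩ => ⟨⟨g, h1⟩, h2⟩, fun ⟨g, h⟩ => ⟨g.1, g.2, h⟩⟩

lemma a_notMem_orbit {d : Ω} (hd : (orbit (stabilizer G a) d).ncard ≠ 1) :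
    a ∉ orbit (stabilizer G a) d := fun h => hd <| by
  have e : orbit (stabilizer G a) d = orbit (stabilizer G a) a := (orbit_eq_iff.mpr h).symm
  rw [e, Set.ncard_eq_one]
  refine ⟨a, Set.eq_singleton_iff_unique_mem.mpr ⟨mem_orbit_self a, ?_⟩⟩
  rintro _ ⟨g, rfl⟩
  exact g.2

lemma orbit_cases (y : Ω) :
    y = a ∨ y ∈ orbit (stabilizer G a) b ∨ y ∈ orbit (stabilizer G a) c := by
  have hdis : Disjoint (orbit (stabilizer G a) b) (orbit (stabilizer G a) c) := by
    rw [Set.disjoint_left]
    intro z hz hz'
    rw [← orbit_eq_iff.mpr hz, orbit_eq_iff.mpr hz'] at hb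
    omega
  have ha : a ∉ orbit (stabilizer G a) b ∪ orbit (stabilizer G a) c := fun h => h.elim
    (a_notMem_orbit hΩ hb hc (by omega)) (a_notMem_orbit hΩ hb hc (by omega))
  have hall : insert a (orbit (stabilizer G a) b ∪ orbit (stabilizer G a) c) = Set.univ := by
    refine Set.eq_of_subset_of_ncard_le (Set.subset_univ _) ?_
    rw [Set.ncard_univ, Nat.card_eq_fintype_card, hΩ, Set.ncard_insert_of_notMem ha,
      Set.ncard_union_eq hdis, hb, hc]
  have := hall ▸ Set.mem_univ y
  simpa [or_assoc] using this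

open Classical in
lemma out_card (x : Ω) : (univ.filter fun y => Rel G a b x y).card = 22 := by
  obtain ⟨g, rfl⟩ := exists_smul_eq G a x
  rw [← hb, ← Set.ncard_coe_finset, ← Set.ncard_image_of_injective (orbit (stabilizer G a) b) (MulAction.injective g)]
  refine (congrArg Set.ncard ?_).symm
  ext y
  simp only [Finset.coe_filter, Finset.mem_univ, true_and, Set.mem_ofPred_eq, Set.mem_image]
  constructor
  · rintro ⟨_, ⟨z, rfl⟩, rfl⟩
    exact rel_smul g ((rel_base hΩ hb hc _).mpr ⟨z, rfl⟩)
  · intro h
    obtain ⟨z, hz⟩ := (rel_base hΩ hb hc (g⁻¹ • y)).mp (by simpa using rel_smul g⁻¹ h)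
    exact ⟨g⁻¹ • y, ⟨z, hz⟩, smul_inv_smul _ _⟩

open Classical in
lemma rel_symm {x y : Ω} (h : Rel G a b x y) : Rel G a b y x := by
  obtain ⟨g, rfl, rfl⟩ := h
  refine rel_smul g ?_
  by_contra hcon
  obtain ⟨k, hk⟩ := exists_smul_eq G b a
  set d := k • a with hd
  have hrel : Rel G a b d a := ⟨k, rfl, hk⟩
  have hda : d ≠ a := fun e => a_notMem_orbit hΩ hb hc (d := b) (by omega)
    ((rel_base hΩ hb hc a).mp (e ▸ hrel))
  rcases orbit_cases hΩ hb hc d with h' | h' | h'
  · exact hda h'
  · -- the inverse of the suborbit is the suborbit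
    obtain ⟨s, hs⟩ := h'
    refine hcon ?_
    have := rel_smul (s.1)⁻¹ hrel
    rwa [show (s.1)⁻¹ • d = b by rw [inv_smul_eq_iff]; exact hs.symm,
      show (s.1)⁻¹ • a = a from mem_stabilizer_iff.mp (inv_mem s.2)] at this
  · have hin : ∀ y, 77 ≤ (univ.filter fun x => Rel G a b x y).card := by
      intro y
      obtain ⟨t, rfl⟩ := exists_smul_eq G a y
      rw [← hc, ← orbit_eq_iff.mpr h', ← Set.ncard_coe_finset]
      refine (Set.ncard_image_of_injective _ (MulAction.injective t)).symm.le.trans (Set.ncard_le_ncard ?_)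
      rintro _ ⟨z, ⟨s, rfl⟩, rfl⟩
      simp only [Finset.coe_filter, Finset.mem_univ, true_and, Set.mem_ofPred_eq]
      refine rel_smul t ?_
      have := rel_smul s.1 hrel
      rwa [show s.1 • a = a from s.2] at this
    have h1 := Finset.sum_card_bipartiteAbove_eq_sum_card_bipartiteBelow (s := (univ : Finset Ω))
      (t := (univ : Finset Ω)) (Rel G a b)
    have h2 : ∑ x, ((univ : Finset Ω).bipartiteAbove (Rel G a b) x).card = 100 * 22 := by
      rw [Finset.sum_congr rfl fun x _ => (show ((univ : Finset Ω).bipartiteAbove (Rel G a b) x).card = 22 by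
        convert! out_card hΩ hb hc x)]
      simp [hΩ]
    have h3 : 100 * 77 ≤ ∑ y, ((univ : Finset Ω).bipartiteBelow (Rel G a b) y).card := by
      refine le_trans ?_ (Finset.sum_le_sum fun y _ => hin y)
      simp [hΩ]
    omega

lemma rel_irrefl (x : Ω) : ¬ Rel G a b x x := fun ⟨g, h1, h2⟩ => by
  have e : b = a := MulAction.injective g (h2.trans h1.symm)
  exact a_notMem_orbit hΩ hb hc (d := b) (by omega) (e ▸ mem_orbit_self b)

/-- The graph of the suborbit of size 22. -/
def graph : SimpleGraph Ω where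
  Adj := Rel G a b
  symm := ⟨fun _ _ h => rel_symm hΩ hb hc h⟩
  loopless := ⟨fun x => rel_irrefl hΩ hb hc x⟩

open Classical in
theorem isSRG : (graph hΩ hb hc).IsSRGWith 100 22 0 6 := by
  set Γ := graph hΩ hb hc with hΓ
  let cn : Ω → Ω → ℕ := fun x y => (univ.filter fun z => Γ.Adj x z ∧ Γ.Adj y z).card
  have hcnsmul : ∀ (g : G) x y, cn (g • x) (g • y) = cn x y := fun g x y => by
    refine Finset.card_bij (fun z _ => g⁻¹ • z) (fun z hz => ?_) (fun z _ w _ e => MulAction.injective _ e)
      (fun z hz => ⟨g • z, ?_, inv_smul_smul _ _⟩)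
    · simp only [Finset.mem_filter, Finset.mem_univ, true_and] at hz ⊢
      have h1 := rel_smul g⁻¹ hz.1
      have h2 := rel_smul g⁻¹ hz.2
      rw [inv_smul_smul] at h1 h2
      exact ⟨h1, h2⟩
    · simp only [Finset.mem_filter, Finset.mem_univ, true_and] at hz ⊢
      exact ⟨rel_smul g hz.1, rel_smul g hz.2⟩
  have hcases : ∀ x y : Ω, x ≠ y → cn x y = if Γ.Adj x y then cn a b else cn a c := by
    intro x y hxy
    obtain ⟨g, rfl⟩ := exists_smul_eq G a x
    obtain ⟨z, rfl⟩ : ∃ z, g • z = y := ⟨g⁻¹ • y, smul_inv_smul _ _⟩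
    rw [hcnsmul]
    rcases orbit_cases hΩ hb hc z with rfl | ⟨s, rfl⟩ | ⟨s, rfl⟩
    · exact absurd rfl hxy
    · rw [if_pos (show Γ.Adj (g • a) (g • s • b) from rel_smul g ((rel_base hΩ hb hc _).mpr ⟨s, rfl⟩))]
      exact (congrArg (fun t => cn t (s • b)) (show s.1 • a = a from s.2).symm).trans (hcnsmul s.1 a b)
    · rw [if_neg fun h => ?_]
      · exact (congrArg (fun t => cn t (s • c)) (show s.1 • a = a from s.2).symm).trans (hcnsmul s.1 a c)
      · have h' : Rel G a b a (s • c) := by simpa using rel_smul g⁻¹ h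
        have h'' := (rel_base hΩ hb hc _).mp h'
        rw [← orbit_eq_iff.mpr h'', orbit_smul, hc] at hb
        omega
  have hdeg : ∀ x, (univ.filter fun z => Γ.Adj x z).card = 22 := fun x => by
    convert! out_card hΩ hb hc x
  have hself : ∀ x, cn x x = 22 := fun x => by simp only [cn, and_self]; exact hdeg x
  have hsplit : 484 = 22 + 22 * cn a b + 77 * cn a c := by
    have h1 : ∑ y, cn a y = 484 := by
      have h := Finset.sum_card_bipartiteAbove_eq_sum_card_bipartiteBelow (s := (univ : Finset Ω))
        (t := univ.filter fun z => Γ.Adj a z) (fun y z => Γ.Adj y z)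
      have e : ∀ y, cn a y = ((univ.filter fun z => Γ.Adj a z).bipartiteAbove (fun y z => Γ.Adj y z) y).card :=
        fun y => by
          show _ = ((univ.filter fun z => Γ.Adj a z).filter fun z => Γ.Adj y z).card
          rw [Finset.filter_filter]
      rw [Finset.sum_congr rfl fun y _ => e y, h,
        Finset.sum_congr rfl fun z _ => show _ = 22 from (by
          refine Eq.trans ?_ (hdeg z)
          congr 1; ext y; simp [Finset.bipartiteBelow, Γ.adj_comm z y]), Finset.sum_const, hdeg a]
      rfl
    rw [← Finset.add_sum_erase _ _ (Finset.mem_univ a), hself,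
      Finset.sum_congr rfl fun y hy => hcases a y (Finset.ne_of_mem_erase hy).symm, Finset.sum_ite,
      Finset.sum_const, Finset.sum_const] at h1
    have n1 : ((univ.erase a).filter fun y => Γ.Adj a y).card = 22 := by
      refine Eq.trans ?_ (hdeg a)
      congr 1; ext y; simp only [Finset.mem_filter, Finset.mem_erase, Finset.mem_univ, and_true, true_and]
      exact ⟨fun h => h.2, fun h => ⟨(Γ.ne_of_adj h).symm, h⟩⟩
    have n2 : ((univ.erase a).filter fun y => ¬ Γ.Adj a y).card = 77 := by
      have := Finset.card_filter_add_card_filter_not (s := univ.erase a) fun y => Γ.Adj a y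
      rw [n1, Finset.card_erase_of_mem (Finset.mem_univ a), Finset.card_univ, hΩ] at this
      omega
    rw [n1, n2, smul_eq_mul, smul_eq_mul] at h1
    omega
  have hab : Γ.Adj a b := (rel_base hΩ hb hc b).mpr (mem_orbit_self b)
  have hl : cn a b ≤ 21 := by
    have h1 : (univ.filter fun z => Γ.Adj a z ∧ Γ.Adj b z) ⊆ (univ.filter fun z => Γ.Adj a z).erase b := by
      intro z hz
      simp only [Finset.mem_filter, Finset.mem_univ, true_and, Finset.mem_erase] at hz ⊢
      exact ⟨(Γ.ne_of_adj hz.2).symm, hz.1⟩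
    have h2 := Finset.card_le_card h1
    rw [Finset.card_erase_of_mem (by simp [hab]), hdeg a] at h2
    exact h2
  have hsol : (cn a b = 0 ∧ cn a c = 6) ∨ (cn a b = 7 ∧ cn a c = 4) ∨ (cn a b = 14 ∧ cn a c = 2) ∨
      (cn a b = 21 ∧ cn a c = 0) := by omega
  -- the adjacency matrix
  have htrace : ∀ (t u : ℚ) (p : ℚ), (∀ x y : Ω, (cn x y : ℚ) + 2 * t * (if Γ.Adj x y then 1 else 0)
      + t ^ 2 * (if x = y then 1 else 0) - 2 * u * (22 + t) + 100 * u ^ 2 =
      p * ((if Γ.Adj x y then 1 else 0) + t * (if x = y then 1 else 0) - u)) → p ≠ 0 →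
      ∃ m : ℕ, 100 * (t - u) = m * p := by
    intro t u p hsq hp
    let E : Matrix Ω Ω ℚ := Matrix.of fun x y => ((if Γ.Adj x y then 1 else 0) + t * (if x = y then 1 else 0) - u) / p
    have hE : E * E = E := by
      ext x y
      rw [Matrix.mul_apply]
      simp only [E, Matrix.of_apply, div_mul_div_comm, ← Finset.sum_div]
      rw [div_eq_div_iff (mul_ne_zero hp hp) hp]
      have e : ∀ z, ((if Γ.Adj x z then (1 : ℚ) else 0) + t * (if x = z then 1 else 0) - u) *
          ((if Γ.Adj z y then (1 : ℚ) else 0) + t * (if z = y then 1 else 0) - u) =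
          (if Γ.Adj x z ∧ Γ.Adj y z then 1 else 0) + t * (if z = y then (if Γ.Adj x z then 1 else 0) else 0)
          + t * (if x = z then (if Γ.Adj z y then 1 else 0) else 0)
          + t ^ 2 * (if x = z then (if z = y then 1 else 0) else 0)
          - u * (if Γ.Adj x z then 1 else 0) - u * (if Γ.Adj y z then 1 else 0)
          - u * t * (if x = z then 1 else 0) - u * t * (if z = y then 1 else 0) + u ^ 2 := fun z => by
        simp only [Γ.adj_comm z y]
        split_ifs <;> simp_all <;> ring
      simp only [e, Finset.sum_add_distrib, Finset.sum_sub_distrib, ← Finset.mul_sum, Finset.sum_ite_eq,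
        Finset.sum_ite_eq', Finset.mem_univ, if_true, Finset.sum_boole, hdeg, Finset.sum_const,
        Finset.card_univ, hΩ]
      have := hsq x y
      push_cast
      simp only [nsmul_eq_mul, Nat.cast_ofNat]
      linear_combination p * this
    obtain ⟨m, hm⟩ := exists_nat_trace E hE
    refine ⟨m, ?_⟩
    rw [← hm, Matrix.trace]
    simp [E, hΩ, SimpleGraph.irrefl]
    field_simp
  have hl0 : cn a b = 0 ∧ cn a c = 6 := by
    rcases hsol with h | h | h | h
    · exact h
    · exfalso
      obtain ⟨m, hm⟩ := htrace 3 (1 / 4) 9 (fun x y => by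
        by_cases hxy : x = y
        · subst hxy; simp [hself]; norm_num
        · rw [hcases x y hxy]
          by_cases hA : Γ.Adj x y <;> simp [hA, hxy, h.1, h.2] <;> norm_num) (by norm_num)
      have : (275 : ℚ) = ((m * 9 : ℕ) : ℚ) := by push_cast; linear_combination hm
      have : 275 = m * 9 := by exact_mod_cast this
      omega
    · exfalso
      -- two non-adjacent neighbours of a point
      set N := univ.filter fun z => Γ.Adj a z with hN
      have hNdeg : ∀ z ∈ N, (N.filter fun w => Γ.Adj z w).card = 14 := by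
        intro z hz
        have hz' : Γ.Adj a z := (Finset.mem_filter.mp hz).2
        have := hcases a z (Γ.ne_of_adj hz')
        rw [if_pos hz', h.1] at this
        refine Eq.trans ?_ this
        rw [hN, Finset.filter_filter]
      have hbN : b ∈ N := by simp [hN, hab]
      obtain ⟨d, hd, hdn⟩ : ∃ d ∈ N.erase b, ¬ Γ.Adj b d := by
        by_contra hcon
        push Not at hcon
        have h1 : N.erase b ⊆ N.filter fun w => Γ.Adj b w := fun w hw =>
          Finset.mem_filter.mpr ⟨Finset.mem_of_mem_erase hw, hcon w hw⟩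
        have h2 := Finset.card_le_card h1
        rw [Finset.card_erase_of_mem hbN, hdeg a, hNdeg b hbN] at h2
        omega
      have hdb : b ≠ d := (Finset.ne_of_mem_erase hd).symm
      have h1 := hcases b d hdb
      rw [if_neg hdn, h.2] at h1
      have h3 := hNdeg b hbN
      have h4 := hNdeg d (Finset.mem_of_mem_erase hd)
      have h5 : (N.filter fun w => Γ.Adj b w) ∪ (N.filter fun w => Γ.Adj d w) ⊆ N :=
        Finset.union_subset (Finset.filter_subset _ _) (Finset.filter_subset _ _)
      have h6 : (N.filter fun w => Γ.Adj b w) ∩ (N.filter fun w => Γ.Adj d w) ⊆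
          univ.filter fun w => Γ.Adj b w ∧ Γ.Adj d w := by
        intro w hw
        simp only [Finset.mem_inter, Finset.mem_filter] at hw
        simp [hw.1.2, hw.2.2]
      have h7 := Finset.card_union_add_card_inter (N.filter fun w => Γ.Adj b w) (N.filter fun w => Γ.Adj d w)
      have h8 := Finset.card_le_card h5
      have h9 := Finset.card_le_card h6
      rw [hdeg a] at h8
      change _ ≤ cn b d at h9
      omega
    · exfalso
      obtain ⟨m, hm⟩ := htrace 1 0 23 (fun x y => by
        by_cases hxy : x = y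
        · subst hxy; simp [hself]; norm_num
        · rw [hcases x y hxy]
          by_cases hA : Γ.Adj x y <;> simp [hA, hxy, h.1, h.2] <;> norm_num) (by norm_num)
      have : (100 : ℚ) = ((m * 23 : ℕ) : ℚ) := by push_cast; linear_combination hm
      have : 100 = m * 23 := by exact_mod_cast this
      omega
  refine ⟨hΩ, fun x => ?_, fun x y h => ?_, fun x y hxy h => ?_⟩
  · rw [← SimpleGraph.card_neighborFinset_eq_degree, SimpleGraph.neighborFinset_eq_filter]; exact hdeg x
  · have h1 := hcases x y (Γ.ne_of_adj h)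
    rw [if_pos h, hl0.1] at h1
    rw [Fintype.card_subtype]
    refine Eq.trans ?_ h1
    congr 1
  · have h1 := hcases x y hxy
    rw [if_neg h, hl0.2] at h1
    rw [Fintype.card_subtype]
    refine Eq.trans ?_ h1
    congr 1

open Classical in
/-- Such a group is the group of even automorphisms of the graph of the residual system. -/
theorem nonempty_equiv (hcard : Nat.card (stabilizer G a) = 443520) :
    Nonempty (G ≃* evenAut (B := restBlocks)) := by
  set Γ := graph hΩ hb hc with hΓ
  obtain ⟨B, hB, hα, ⟨f⟩⟩ := Unique.exists_iso (isSRG hΩ hb hc) a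
  obtain ⟨e, he⟩ := CfsgLib.Steiner.iso22 hB hα restBlocks_steiner card_rest
  let F : Γ ≃g pointBlockGraph restBlocks := f.symm.trans (mapIso e he)
  let act : G → (pointBlockGraph restBlocks ≃g pointBlockGraph restBlocks) := fun g =>
    ⟨(F.toEquiv.symm.trans g.1).trans F.toEquiv, by
      intro x y
      have h1 : Γ.Adj (g • F.symm x) (g • F.symm y) ↔ Γ.Adj (F.symm x) (F.symm y) :=
        ⟨fun h => (by simpa using rel_smul g⁻¹ (show Rel G a b _ _ from h) : Rel G a b (F.symm x) (F.symm y)), rel_smul g⟩
      rw [← F.map_rel_iff] at h1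
      exact h1.trans F.symm.map_rel_iff⟩
  let Φ : G →* (pointBlockGraph restBlocks ≃g pointBlockGraph restBlocks) :=
    MonoidHom.mk' act fun g h => RelIso.ext fun x => by
      show F (g.1 (h.1 (F.symm x))) = F (g.1 (F.symm (F (h.1 (F.symm x)))))
      rw [RelIso.symm_apply_apply]
  have hinj : Function.Injective Φ := fun g h e' => Subtype.ext (Equiv.ext fun x => by
    have := congrArg (fun k : pointBlockGraph restBlocks ≃g pointBlockGraph restBlocks => k (F x)) e'
    change F (g.1 (F.symm (F x))) = F (h.1 (F.symm (F x))) at this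
    rw [RelIso.symm_apply_apply] at this
    exact F.injective this)
  have hG : Nat.card G = 44352000 := by
    have h := (stabilizer G a).card_mul_index
    rw [index_stabilizer_of_transitive, Nat.card_eq_fintype_card (α := Ω), hΩ, hcard] at h
    omega
  have hHS := isHS_evenAut restBlocks_steiner card_rest
  have hA := card_aut restBlocks_steiner card_rest
  haveI : Finite (pointBlockGraph restBlocks ≃g pointBlockGraph restBlocks) :=
    Nat.finite_of_card_ne_zero (by rw [hA]; norm_num)
  haveI := hHS.1
  have hr : Nat.card Φ.range = 44352000 := by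
    rw [← Nat.card_congr (MonoidHom.ofInjective hinj).toEquiv, hG]
  have hidx : ∀ K : Subgroup (pointBlockGraph restBlocks ≃g pointBlockGraph restBlocks),
      Nat.card K = 44352000 → K.index = 2 := fun K h => by
    have := K.card_mul_index
    rw [h, hA] at this
    omega
  exact ⟨(MonoidHom.ofInjective hinj).trans (MulEquiv.subgroupCongr
    (eq_of_index_two (hidx _ hHS.2) (hidx _ hr) (by rw [hHS.2]; norm_num)))⟩

omit hΩ hb hc in
/-- The order of the point stabiliser. -/
lemma card_m22 : Nat.card Spor.M22 = 443520 := by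
  rw [← CfsgLib.Golay.card_stab_pair none (some 0) (by simp)]
  exact Nat.card_congr
    { toFun := fun g => ⟨⟨g.1, g.2.1.1⟩, g.2.1.2, g.2.2⟩
      invFun := fun g => ⟨g.1.1, ⟨g.1.2, g.2.1⟩, g.2.2⟩
      left_inv := fun _ => rfl
      right_inv := fun _ => rfl }

end Cfsg.Agent.HSGraph.RankThree
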