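import Cfsg.Agent.Golay.Steiner
import Cfsg.Agent.Steiner.Transport22

/-!
# The residual system of the octads at two points
-/

set_option autoImplicit false

namespace Cfsg.Agent.HSGraph

open Cfsg CfsgLib

/-- The points other than the extra one and zero. -/
abbrev Rest : Type := {p : GolayPt // p ≠ none ∧ p ≠ some 0}

/-- The set of 24-points of a block. -/
def full (b : Finset Rest) : Finset GolayPt :=
  insert none (insert (some 0) (b.map (Function.Embedding.subtype _)))

/-- The residual system. -/
def restBlocks : Set (Finset Rest) := {b | full b ∈ octads}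

lemma card_rest : Fintype.card Rest = 22 := by decide +kernel

lemma mem_full {b : Finset Rest} (a : Rest) : (a : GolayPt) ∈ full b ↔ a ∈ b := by
  simp [full, a.2.1, a.2.2]

lemma card_full (b : Finset Rest) : (full b).card = b.card + 2 := by
  rw [full, Finset.card_insert_of_notMem, Finset.card_insert_of_notMem, Finset.card_map]
  · simp
  · simp

lemma exists_full {o : Finset GolayPt} (h0 : (none : GolayPt) ∈ o) (h1 : (some 0 : GolayPt) ∈ o) :
    ∃ b : Finset Rest, full b = o := by
  refine ⟨(Finset.univ : Finset Rest).filter fun a => (a : GolayPt) ∈ o, ?_⟩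
  ext p
  by_cases hp : p ≠ none ∧ p ≠ some 0
  · rw [show p = ((⟨p, hp⟩ : Rest) : GolayPt) from rfl, mem_full]; simp
  · by_cases hp0 : p = none
    · subst hp0; simp [full, h0]
    · have hp1 : p = some 0 := by by_contra h; exact hp ⟨hp0, h⟩
      subst hp1; simp [full, h1]

lemma full_inter (b c : Finset Rest) : full b ∩ full c = full (b ∩ c) := by
  simp only [full]
  rw [Finset.map_inter]
  ext p
  simp only [Finset.mem_inter, Finset.mem_insert]
  tauto

lemma full_injective : Function.Injective full := fun b c h => Finset.ext fun a => by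
  rw [← mem_full, ← mem_full, h]

lemma restBlocks_steiner : IsSteinerSystem 3 6 restBlocks := by
  refine ⟨fun b hb => ?_, fun s hs => ?_⟩
  · have := Golay.octad_card (o := full b) hb
    rw [card_full] at this
    omega
  · obtain ⟨o, ⟨ho, hso⟩, huniq⟩ := Golay.octads_steiner.2 (full s) (by rw [card_full, hs])
    obtain ⟨b, rfl⟩ := exists_full (hso (by simp [full])) (hso (by simp [full]))
    refine ⟨b, ⟨ho, fun a ha => (mem_full a).mp (hso ((mem_full a).mpr ha))⟩, ?_⟩
    rintro c ⟨hc, hsc⟩
    refine full_injective (huniq (full c) ⟨hc, fun p hp => ?_⟩)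
    simp only [full, Finset.mem_insert, Finset.mem_map] at hp ⊢
    rcases hp with h | h | ⟨a, ha, h⟩
    exacts [Or.inl h, Or.inr (Or.inl h), Or.inr (Or.inr ⟨a, hsc ha, h⟩)]

lemma inter_rest {b c : Finset Rest} (hb : b ∈ restBlocks) (hc : c ∈ restBlocks) (hbc : b ≠ c) :
    (b ∩ c).card = 0 ∨ (b ∩ c).card = 2 :=
  Steiner.inter_cases_22 restBlocks_steiner card_rest hb hc hbc

end Cfsg.Agent.HSGraph
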